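import Mathlib

/-!
Two involutions, dihedral subgroups, real elements, counting involutions.

Throughout, an involution is an element `t` with `orderOf t = 2`.
-/

namespace Cfsg.Agent.Lib.Involutions.Basic

variable {G : Type*} [Group G] {x y t r : G}

theorem invol_iff : orderOf t = 2 ↔ t * t = 1 ∧ t ≠ 1 := by
  rw [orderOf_eq_prime_iff, pow_two]

theorem invol_mul_self (ht : orderOf t = 2) : t * t = 1 := (invol_iff.1 ht).1

theorem invol_ne_one (ht : orderOf t = 2) : t ≠ 1 := (invol_iff.1 ht).2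

theorem invol_inv (ht : orderOf t = 2) : t⁻¹ = t :=
  inv_eq_of_mul_eq_one_right (invol_mul_self ht)

theorem orderOf_conj_eq (g a : G) : orderOf (g * a * g⁻¹) = orderOf a := by
  simpa using MulEquiv.orderOf_eq (MulAut.conj g) a

/-- An element of order two inverting `r` inverts every power of `r`. -/
theorem invert_zpow (ht : t * t = 1) (h : t * r * t = r⁻¹) (k : ℤ) :
    t * r ^ k * t = r ^ (-k) := by
  have hti : t⁻¹ = t := inv_eq_of_mul_eq_one_right ht
  have := map_zpow (MulAut.conj t) r k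
  simp only [MulAut.conj_apply, hti] at this
  rw [this, h, inv_zpow']

theorem invert_comm (ht : t * t = 1) (h : t * r * t = r⁻¹) (k : ℤ) :
    r ^ k * t = t * r ^ (-k) := by
  rw [← invert_zpow ht h, ← mul_assoc, ← mul_assoc, ht, one_mul]

/-- The product of two elements of square one is inverted by the first one. -/
theorem invert_mul (hx : x * x = 1) (hy : y * y = 1) : x * (x * y) * x = (x * y)⁻¹ := by
  have hxi : x⁻¹ = x := inv_eq_of_mul_eq_one_right hx
  have hyi : y⁻¹ = y := inv_eq_of_mul_eq_one_right hy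
  rw [mul_inv_rev, hxi, hyi, ← mul_assoc x x y, hx, one_mul]

theorem mul_zpow_sq (hx : x * x = 1) (hy : y * y = 1) (k : ℤ) :
    x * (x * y) ^ k * (x * (x * y) ^ k) = 1 := by
  have h := invert_zpow hx (invert_mul hx hy) k
  rw [← mul_assoc, h, ← zpow_add, neg_add_cancel, zpow_zero]

/-- The subgroup generated by two elements of square one. -/
theorem mem_closure_pair (hx : x * x = 1) (hy : y * y = 1) {d : G} :
    d ∈ Subgroup.closure ({x, y} : Set G) ↔
      ∃ k : ℤ, d = (x * y) ^ k ∨ d = x * (x * y) ^ k := by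
  have hcomm := invert_comm hx (invert_mul hx hy)
  constructor
  · intro hd
    induction hd using Subgroup.closure_induction with
    | mem z hz =>
      rcases hz with rfl | rfl
      · exact ⟨0, Or.inr (by simp)⟩
      · refine ⟨1, Or.inr ?_⟩
        rw [zpow_one, ← mul_assoc, hx, one_mul]
    | one => exact ⟨0, Or.inl (by simp)⟩
    | mul a b _ _ iha ihb =>
      obtain ⟨i, rfl | rfl⟩ := iha <;> obtain ⟨j, rfl | rfl⟩ := ihb
      · exact ⟨i + j, Or.inl (zpow_add _ _ _).symm⟩
      · refine ⟨-i + j, Or.inr ?_⟩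
        rw [← mul_assoc, hcomm, mul_assoc, ← zpow_add]
      · exact ⟨i + j, Or.inr (by rw [mul_assoc, ← zpow_add])⟩
      · refine ⟨-i + j, Or.inl ?_⟩
        rw [mul_assoc x, ← mul_assoc ((x * y) ^ i), hcomm, ← mul_assoc, ← mul_assoc, hx, one_mul,
          ← zpow_add]
    | inv a _ iha =>
      obtain ⟨i, rfl | rfl⟩ := iha
      · exact ⟨-i, Or.inl (zpow_neg _ _).symm⟩
      · exact ⟨i, Or.inr (inv_eq_of_mul_eq_one_right (mul_zpow_sq hx hy i))⟩
  · have hxm : x ∈ Subgroup.closure ({x, y} : Set G) := Subgroup.subset_closure (Or.inl rfl)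
    have hym : y ∈ Subgroup.closure ({x, y} : Set G) := Subgroup.subset_closure (Or.inr rfl)
    rintro ⟨k, rfl | rfl⟩
    · exact zpow_mem (mul_mem hxm hym) k
    · exact mul_mem hxm (zpow_mem (mul_mem hxm hym) k)

/-- Neither of two involutions is a power of their product. -/
theorem left_notMem_zpowers (hx : orderOf x = 2) (hy : orderOf y = 2) :
    x ∉ Subgroup.zpowers (x * y) := by
  rintro hmem
  obtain ⟨k, hk⟩ := Subgroup.mem_zpowers_iff.1 hmem
  have hxx := invol_mul_self hx
  have hyy := invol_mul_self hy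
  have hc : Commute x (x * y) := by
    have := (Commute.refl (x * y)).zpow_left k
    rwa [hk] at this
  -- then `x * y` has square one
  have h2 : (x * y) ^ (2 : ℤ) = 1 := by
    have := invert_mul hxx hyy
    rw [hc.eq, mul_assoc, hxx, mul_one] at this
    rw [zpow_two]
    nth_rw 2 [this]
    exact mul_inv_cancel _
  rcases Int.even_or_odd k with ⟨j, rfl⟩ | ⟨j, rfl⟩
  · rw [← two_mul, zpow_mul, h2, one_zpow] at hk
    exact invol_ne_one hx hk.symm
  · rw [zpow_add, zpow_mul, h2, one_zpow, one_mul, zpow_one] at hk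
    exact invol_ne_one hy (by simpa using hk)

theorem left_ne_zpow (hx : orderOf x = 2) (hy : orderOf y = 2) (k : ℤ) : (x * y) ^ k ≠ x :=
  fun h => left_notMem_zpowers hx hy (Subgroup.mem_zpowers_iff.2 ⟨k, h⟩)

theorem orderOf_mul_zpow (hx : orderOf x = 2) (hy : orderOf y = 2) (k : ℤ) :
    orderOf (x * (x * y) ^ k) = 2 := by
  refine invol_iff.2 ⟨mul_zpow_sq (invol_mul_self hx) (invol_mul_self hy) k, fun h => ?_⟩
  have : (x * y) ^ k = x := by
    rw [← inv_eq_of_mul_eq_one_right h, invol_inv hx]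
  exact left_ne_zpow hx hy k this

/-- Elements outside the cyclic part are involutions. -/
theorem orderOf_eq_two_of_mem (hx : orderOf x = 2) (hy : orderOf y = 2) {d : G}
    (hd : d ∈ Subgroup.closure ({x, y} : Set G)) (hd' : d ∉ Subgroup.zpowers (x * y)) :
    orderOf d = 2 := by
  obtain ⟨k, rfl | rfl⟩ := (mem_closure_pair (invol_mul_self hx) (invol_mul_self hy)).1 hd
  · exact absurd (Subgroup.mem_zpowers_iff.2 ⟨k, rfl⟩) hd'
  · exact orderOf_mul_zpow hx hy k

/-- The homomorphism from the dihedral group determined by two elements of square one. -/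
noncomputable def dihedralHom (hx : x * x = 1) (hy : y * y = 1) :
    DihedralGroup (orderOf (x * y)) →* G where
  toFun d := match d with
    | .r i => (x * y) ^ (ZMod.cast i : ℤ)
    | .sr i => x * (x * y) ^ (ZMod.cast i : ℤ)
  map_one' := by
    show (x * y) ^ (ZMod.cast (0 : ZMod (orderOf (x * y))) : ℤ) = 1
    simp
  map_mul' := by
    have hcomm := invert_comm hx (invert_mul hx hy)
    have key : ∀ k : ℤ,
        (x * y) ^ (ZMod.cast (k : ZMod (orderOf (x * y))) : ℤ) = (x * y) ^ k := fun k => by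
      rw [ZMod.coe_intCast, zpow_mod_orderOf]
    rintro (i | i) (j | j)
    · show (x * y) ^ (ZMod.cast (i + j) : ℤ) = _
      conv_lhs => rw [← ZMod.intCast_zmod_cast i, ← ZMod.intCast_zmod_cast j, ← Int.cast_add, key]
      rw [zpow_add]
    · show x * (x * y) ^ (ZMod.cast (j - i) : ℤ) = _ * (x * _)
      conv_lhs => rw [← ZMod.intCast_zmod_cast i, ← ZMod.intCast_zmod_cast j, ← Int.cast_sub, key]
      rw [← mul_assoc, hcomm, mul_assoc, ← zpow_add, sub_eq_neg_add]
    · show x * (x * y) ^ (ZMod.cast (i + j) : ℤ) = _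
      conv_lhs => rw [← ZMod.intCast_zmod_cast i, ← ZMod.intCast_zmod_cast j, ← Int.cast_add, key]
      rw [zpow_add, mul_assoc]
    · show (x * y) ^ (ZMod.cast (j - i) : ℤ) = x * _ * (x * _)
      conv_lhs => rw [← ZMod.intCast_zmod_cast i, ← ZMod.intCast_zmod_cast j, ← Int.cast_sub, key]
      rw [← mul_assoc, invert_zpow hx (invert_mul hx hy), ← zpow_add, sub_eq_neg_add]

theorem dihedralHom_injective (hx : orderOf x = 2) (hy : orderOf y = 2) :
    Function.Injective (dihedralHom (invol_mul_self hx) (invol_mul_self hy)) := by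
  rw [injective_iff_map_eq_one]
  rintro (i | i) h
  · change (x * y) ^ (ZMod.cast i : ℤ) = 1 at h
    rw [← orderOf_dvd_iff_zpow_eq_one, ← ZMod.intCast_zmod_eq_zero_iff_dvd,
      ZMod.intCast_zmod_cast] at h
    rw [h]; rfl
  · change x * (x * y) ^ (ZMod.cast i : ℤ) = 1 at h
    exact absurd h (invol_ne_one (orderOf_mul_zpow hx hy _))

theorem range_dihedralHom (hx : x * x = 1) (hy : y * y = 1) :
    (dihedralHom hx hy).range = Subgroup.closure ({x, y} : Set G) := by
  ext d
  rw [mem_closure_pair hx hy, MonoidHom.mem_range]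
  constructor
  · rintro ⟨i | i, rfl⟩
    · exact ⟨_, Or.inl rfl⟩
    · exact ⟨_, Or.inr rfl⟩
  · rintro ⟨k, rfl | rfl⟩
    · exact ⟨.r (k : ZMod _), by
        show (x * y) ^ (ZMod.cast (k : ZMod (orderOf (x * y))) : ℤ) = _
        rw [ZMod.coe_intCast, zpow_mod_orderOf]⟩
    · exact ⟨.sr (k : ZMod _), by
        show x * (x * y) ^ (ZMod.cast (k : ZMod (orderOf (x * y))) : ℤ) = _
        rw [ZMod.coe_intCast, zpow_mod_orderOf]⟩

/-- Two involutions generate a dihedral group. -/
noncomputable def closurePairEquiv (hx : orderOf x = 2) (hy : orderOf y = 2) :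
    ↥(Subgroup.closure ({x, y} : Set G)) ≃* DihedralGroup (orderOf (x * y)) :=
  ((MonoidHom.ofInjective (dihedralHom_injective hx hy)).trans
    (MulEquiv.subgroupCongr (range_dihedralHom (invol_mul_self hx) (invol_mul_self hy)))).symm

theorem card_closure_pair (hx : orderOf x = 2) (hy : orderOf y = 2) :
    Nat.card ↥(Subgroup.closure ({x, y} : Set G)) = 2 * orderOf (x * y) := by
  rw [Nat.card_congr (closurePairEquiv hx hy).toEquiv, DihedralGroup.nat_card]

/-- Conjugates of `x` inside the subgroup generated by `x` and `y`. -/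
theorem exists_conj_mem_iff (hx : x * x = 1) (hy : y * y = 1) {w : G} :
    (∃ d ∈ Subgroup.closure ({x, y} : Set G), d * x * d⁻¹ = w) ↔
      ∃ k : ℤ, w = x * (x * y) ^ (2 * k) := by
  have hcomm := invert_comm hx (invert_mul hx hy)
  have hxi : x⁻¹ = x := inv_eq_of_mul_eq_one_right hx
  have key : ∀ i : ℤ, (x * y) ^ i * x * ((x * y) ^ i)⁻¹ = x * (x * y) ^ (2 * -i) := fun i => by
    rw [hcomm, ← zpow_neg, mul_assoc, ← zpow_add, two_mul]
  constructor
  · rintro ⟨d, hd, rfl⟩
    obtain ⟨i, rfl | rfl⟩ := (mem_closure_pair hx hy).1 hd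
    · exact ⟨-i, key i⟩
    · refine ⟨i, ?_⟩
      rw [mul_inv_rev, mul_assoc x, ← mul_assoc _ _ x⁻¹, mul_assoc x, key, hxi,
        ← mul_assoc x x, hx, one_mul, hcomm, mul_neg, neg_neg]
  · rintro ⟨k, rfl⟩
    exact ⟨_, (mem_closure_pair hx hy).2 ⟨-k, Or.inl rfl⟩, by rw [key, neg_neg]⟩

/-- Two involutions with product of odd order are conjugate in the subgroup they generate. -/
theorem exists_conj_of_odd (hx : x * x = 1) (hy : y * y = 1) (hodd : Odd (orderOf (x * y))) :
    ∃ d ∈ Subgroup.closure ({x, y} : Set G), d * x * d⁻¹ = y := by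
  rw [exists_conj_mem_iff hx hy]
  obtain ⟨m, hm⟩ := hodd
  refine ⟨(m : ℤ) + 1, ?_⟩
  have h1 : (x * y) ^ ((orderOf (x * y) : ℤ)) = 1 := by rw [zpow_natCast, pow_orderOf_eq_one]
  have h2 : (2 : ℤ) * ((m : ℤ) + 1) = (orderOf (x * y) : ℤ) + 1 := by rw [hm]; push_cast; ring
  rw [h2, zpow_add, h1, one_mul, zpow_one, ← mul_assoc, hx, one_mul]

theorem isConj_of_odd (hx : orderOf x = 2) (hy : orderOf y = 2) (hodd : Odd (orderOf (x * y))) :
    IsConj x y := by
  obtain ⟨d, _, hd⟩ := exists_conj_of_odd (invol_mul_self hx) (invol_mul_self hy) hodd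
  exact isConj_iff.2 ⟨d, hd⟩

/-- Two involutions with product of even order are not conjugate in their closure. -/
theorem not_conj_of_even (hx : x * x = 1) (hy : y * y = 1) (heven : Even (orderOf (x * y)))
    {d : G} (hd : d ∈ Subgroup.closure ({x, y} : Set G)) : d * x * d⁻¹ ≠ y := by
  intro h
  obtain ⟨k, hk⟩ := (exists_conj_mem_iff hx hy).1 ⟨d, hd, h⟩
  have h1 : (x * y) ^ (2 * k - 1) = 1 := by
    rw [zpow_sub_one, mul_inv_eq_one]
    apply mul_left_cancel (a := x)
    rw [← mul_assoc, hx, one_mul, ← hk]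
  obtain ⟨m, hm⟩ := heven
  have h2 : (2 : ℤ) ∣ (2 * k - 1) := by
    refine Dvd.dvd.trans ?_ (orderOf_dvd_iff_zpow_eq_one.2 h1)
    exact ⟨m, by rw [hm]; push_cast; ring⟩
  omega

theorem orderOf_pow_half [Finite G] (heven : Even (orderOf r)) :
    orderOf (r ^ (orderOf r / 2)) = 2 := by
  have h := orderOf_pos r
  obtain ⟨m, hm⟩ := heven
  have hd : orderOf r / 2 ∣ orderOf r := ⟨2, by omega⟩
  rw [orderOf_pow_of_dvd (by omega) hd]
  exact Nat.div_eq_of_eq_mul_left (by omega) (by omega)

/-- If `t` inverts `r` then it commutes with the involution in `zpowers r`. -/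
theorem commute_pow_half [Finite G] (ht : t * t = 1) (h : t * r * t = r⁻¹)
    (heven : Even (orderOf r)) : Commute (r ^ (orderOf r / 2)) t := by
  have hz := orderOf_pow_half heven
  have := invert_comm ht h ((orderOf r / 2 : ℕ) : ℤ)
  rw [zpow_neg, zpow_natCast, invol_inv hz] at this
  exact this

/-- For two involutions with product of even order, the involution commuting with both. -/
theorem central_invol [Finite G] (hx : orderOf x = 2) (hy : orderOf y = 2)
    (heven : Even (orderOf (x * y))) :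
    orderOf ((x * y) ^ (orderOf (x * y) / 2)) = 2 ∧
      Commute ((x * y) ^ (orderOf (x * y) / 2)) x ∧
        Commute ((x * y) ^ (orderOf (x * y) / 2)) y := by
  have hxx := invol_mul_self hx
  have hyy := invol_mul_self hy
  have hcx := commute_pow_half hxx (invert_mul hxx hyy) heven
  have hyi : y * (x * y) * y = (x * y)⁻¹ := by
    rw [mul_inv_rev, invol_inv hx, invol_inv hy, mul_assoc y, mul_assoc x y y, hyy, mul_one]
  exact ⟨orderOf_pow_half heven, hcx, commute_pow_half hyy hyi heven⟩

/-- Two non-conjugate involutions have product of even order. -/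
theorem even_of_not_isConj (hx : orderOf x = 2) (hy : orderOf y = 2) (h : ¬ IsConj x y) :
    Even (orderOf (x * y)) :=
  Nat.not_odd_iff_even.1 fun ho => h (isConj_of_odd hx hy ho)

/-- A cyclic group contains at most one involution. -/
theorem invol_unique_zpowers [Finite G] {z : G} (hz : orderOf z = 2)
    (hzr : z ∈ Subgroup.zpowers r) :
    Even (orderOf r) ∧ z = r ^ (orderOf r / 2) := by
  have h2 : 2 ∣ orderOf r := hz ▸ orderOf_dvd_of_mem_zpowers hzr
  obtain ⟨k, rfl⟩ : ∃ k : ℕ, r ^ k = z := mem_powers_iff_mem_zpowers.2 hzr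
  refine ⟨even_iff_two_dvd.2 h2, ?_⟩
  obtain ⟨m, hm⟩ := h2
  have h := orderOf_dvd_iff_pow_eq_one.2 (by
    rw [pow_two]; exact invol_mul_self hz : (r ^ k) ^ 2 = 1)
  have hkm : orderOf r ∣ k * 2 := orderOf_dvd_iff_pow_eq_one.2 (by
    rw [pow_mul, pow_two]; exact invol_mul_self hz)
  rw [hm, mul_comm k 2] at hkm
  obtain ⟨c, hc⟩ := Nat.dvd_of_mul_dvd_mul_left (by norm_num) hkm
  rw [hm, Nat.mul_div_cancel_left m (by norm_num)]
  rcases Nat.even_or_odd c with ⟨e, rfl⟩ | ⟨e, rfl⟩
  · exact absurd (orderOf_dvd_iff_pow_eq_one.1 ⟨e, by rw [hm, hc]; ring⟩) (invol_ne_one hz)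
  · rw [hc, show m * (2 * e + 1) = orderOf r * e + m by rw [hm]; ring, pow_add, pow_mul,
      pow_orderOf_eq_one, one_pow, one_mul]

section Real

/-- An element conjugate to its inverse is conjugated there by as many elements as centralise
it. -/
noncomputable def invertersEquiv {g : G} (hg : g * x * g⁻¹ = x⁻¹) :
    {h : G // h * x * h⁻¹ = x⁻¹} ≃ ↥(Subgroup.centralizer ({x} : Set G)) where
  toFun h := ⟨g⁻¹ * h.1, Subgroup.mem_centralizer_singleton_iff.2 (by
    have h1 := h.2
    calc g⁻¹ * h.1 * x = g⁻¹ * (h.1 * x * h.1⁻¹) * h.1 := by group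
      _ = g⁻¹ * (g * x * g⁻¹) * h.1 := by rw [h1, hg]
      _ = x * (g⁻¹ * h.1) := by group)⟩
  invFun c := ⟨g * c.1, by
    have h1 := Subgroup.mem_centralizer_singleton_iff.1 c.2
    calc g * c.1 * x * (g * c.1)⁻¹ = g * (c.1 * x) * c.1⁻¹ * g⁻¹ := by group
      _ = g * (x * c.1) * c.1⁻¹ * g⁻¹ := by rw [h1]
      _ = g * x * g⁻¹ := by group
      _ = x⁻¹ := hg⟩
  left_inv h := by simp
  right_inv c := by simp

theorem card_inverters (hreal : IsConj x x⁻¹) :
    Nat.card {g : G // g * x * g⁻¹ = x⁻¹} =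
      Nat.card (Subgroup.centralizer ({x} : Set G)) := by
  obtain ⟨g, hg⟩ := isConj_iff.1 hreal
  exact Nat.card_congr (invertersEquiv hg)

/-- Pairs of involutions with product `x`. -/
abbrev Pairs (x : G) :=
  {p : G × G // orderOf p.1 = 2 ∧ orderOf p.2 = 2 ∧ p.1 * p.2 = x}

theorem pair_inverts {u v : G} (hu : orderOf u = 2) (hv : orderOf v = 2) :
    u * (u * v) * u⁻¹ = (u * v)⁻¹ := by
  rw [invol_inv hu]
  exact invert_mul (invol_mul_self hu) (invol_mul_self hv)

/-- Pairs of involutions with product `x` against the involutions inverting `x`. -/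
def pairsEquiv (x : G) :
    Pairs x ≃ {t : G // orderOf t = 2 ∧ t * x * t⁻¹ = x⁻¹ ∧ t * x ≠ 1} where
  toFun p := ⟨p.1.1, p.2.1, by
    have h := pair_inverts p.2.1 p.2.2.1
    rwa [p.2.2.2] at h, by
    intro h
    have h4 : p.1.1 * (p.1.1 * p.1.2) = 1 := by rw [p.2.2.2]; exact h
    rw [← mul_assoc, invol_mul_self p.2.1, one_mul] at h4
    exact invol_ne_one p.2.2.1 h4⟩
  invFun t := ⟨(t.1, t.1 * x), t.2.1, invol_iff.2 ⟨by
    have h := t.2.2.1
    rw [invol_inv t.2.1] at h
    rw [← mul_assoc, h, inv_mul_cancel], t.2.2.2⟩, by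
    show t.1 * (t.1 * x) = x
    rw [← mul_assoc, invol_mul_self t.2.1, one_mul]⟩
  left_inv p := by
    apply Subtype.ext
    apply Prod.ext
    · rfl
    · show p.1.1 * x = p.1.2
      calc p.1.1 * x = p.1.1 * (p.1.1 * p.1.2) := by rw [p.2.2.2]
        _ = p.1.2 := by rw [← mul_assoc, invol_mul_self p.2.1, one_mul]
  right_inv t := rfl

theorem card_pairs_le_centralizer [Finite G] (x : G) :
    Nat.card (Pairs x) ≤ Nat.card (Subgroup.centralizer ({x} : Set G)) := by
  rcases isEmpty_or_nonempty (Pairs x) with h | ⟨⟨p⟩⟩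
  · simp
  · have hreal : IsConj x x⁻¹ :=
      isConj_iff.2 ⟨_, (pairsEquiv x p).2.2.1⟩
    rw [← card_inverters hreal]
    refine Nat.card_le_card_of_injective (fun q => ⟨(pairsEquiv x q).1, (pairsEquiv x q).2.2.1⟩) ?_
    intro a b hab
    simp only [Subtype.mk.injEq] at hab
    exact (pairsEquiv x).injective (Subtype.ext hab)

theorem card_pairs_eq_zero (h : ¬ IsConj x x⁻¹) : Nat.card (Pairs x) = 0 := by
  have : IsEmpty (Pairs x) := ⟨fun p => h (isConj_iff.2 ⟨_, (pairsEquiv x p).2.2.1⟩)⟩
  simp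

theorem card_pairs_invol [Finite G] (hx : orderOf x = 2) :
    Nat.card (Pairs x) + 2 ≤ Nat.card (Subgroup.centralizer ({x} : Set G)) := by
  classical
  have := Fintype.ofFinite G
  rw [Nat.card_congr (pairsEquiv x), Nat.card_eq_fintype_card, Fintype.card_subtype,
    Nat.card_eq_fintype_card, Fintype.card_subtype]
  set C := Finset.univ.filter (fun g : G => g ∈ Subgroup.centralizer ({x} : Set G))
  have hsub : Finset.univ.filter
      (fun t : G => orderOf t = 2 ∧ t * x * t⁻¹ = x⁻¹ ∧ t * x ≠ 1) ⊆ C \ {1, x} := by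
    intro t ht
    simp only [Finset.mem_filter, Finset.mem_univ, true_and] at ht
    obtain ⟨h1, h2, h3⟩ := ht
    simp only [C, Finset.mem_sdiff, Finset.mem_filter, Finset.mem_univ, true_and,
      Finset.mem_insert, Finset.mem_singleton, not_or]
    refine ⟨?_, invol_ne_one h1, ?_⟩
    · rw [Subgroup.mem_centralizer_singleton_iff]
      rw [invol_inv hx, mul_inv_eq_iff_eq_mul] at h2
      exact h2
    · rintro rfl
      exact h3 (invol_mul_self h1)
  have h2 : ({1, x} : Finset G) ⊆ C := by
    intro a ha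
    simp only [Finset.mem_insert, Finset.mem_singleton] at ha
    rcases ha with rfl | rfl
    · simp [C, one_mem]
    · simp [C, Subgroup.mem_centralizer_singleton_iff]
  have := Finset.card_le_card hsub
  rw [Finset.card_sdiff_of_subset h2, Finset.card_pair (invol_ne_one hx).symm] at this
  have := Finset.card_le_card h2
  rw [Finset.card_pair (invol_ne_one hx).symm] at this
  omega

/-- A nontrivial real element forces even order. -/
theorem even_card_of_real [Finite G] (hx : x ≠ 1) (hreal : IsConj x x⁻¹) : Even (Nat.card G) := by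
  by_contra hodd
  rw [Nat.not_even_iff_odd] at hodd
  obtain ⟨g, hg⟩ := isConj_iff.1 hreal
  have hd : Odd (orderOf g) := hodd.of_dvd_nat (orderOf_dvd_natCard g)
  have h2 : Commute (g ^ 2) x := by
    have : g ^ 2 * x * (g ^ 2)⁻¹ = x := by
      calc g ^ 2 * x * (g ^ 2)⁻¹ = g * (g * x * g⁻¹) * g⁻¹ := by
            rw [pow_two, mul_inv_rev]; simp only [mul_assoc]
        _ = g * x⁻¹ * g⁻¹ := by rw [hg]
        _ = (g * x * g⁻¹)⁻¹ := by group
        _ = x := by rw [hg, inv_inv]
    exact mul_inv_eq_iff_eq_mul.1 this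
  obtain ⟨m, hm⟩ := hd
  have hgx : Commute g x := by
    have h1 : g = (g ^ 2) ^ (m + 1) := by
      rw [← pow_mul, show 2 * (m + 1) = orderOf g + 1 by omega, pow_succ, pow_orderOf_eq_one,
        one_mul]
    rw [h1]; exact h2.pow_left _
  rw [hgx.eq, mul_assoc, mul_inv_cancel, mul_one] at hg
  have hxx : orderOf x = 2 := invol_iff.2 ⟨by nth_rw 1 [hg]; exact inv_mul_cancel x, hx⟩
  exact (Nat.not_even_iff_odd.2 hodd) (even_iff_two_dvd.2 (hxx ▸ orderOf_dvd_natCard x))

end Real

/-- A finite group of even order has an odd number of involutions. -/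
theorem odd_card_invol [Finite G] (heven : Even (Nat.card G)) :
    Odd (Nat.card {t : G // orderOf t = 2}) := by
  classical
  have := Fintype.ofFinite G
  let σ : Equiv.Perm G := Equiv.inv G
  have hσ : σ ^ 2 = 1 := by ext g; simp [σ, pow_two]
  have hs : σ.supportᶜ = insert 1 (Finset.univ.filter fun t : G => orderOf t = 2) := by
    ext g
    simp only [Finset.mem_compl, Equiv.Perm.mem_support, not_not, Finset.mem_insert,
      Finset.mem_filter, Finset.mem_univ, true_and, σ, Equiv.inv_apply, invol_iff]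
    constructor
    · intro h
      rcases eq_or_ne g 1 with h1 | h1
      · exact Or.inl h1
      · exact Or.inr ⟨by nth_rw 1 [← h]; exact inv_mul_cancel g, h1⟩
    · rintro (rfl | ⟨h, _⟩)
      · exact inv_one
      · exact inv_eq_of_mul_eq_one_right h
  have hc := congrArg Finset.card hs
  rw [Finset.card_compl, Finset.card_insert_of_notMem (by simp [orderOf_one])] at hc
  have := Equiv.Perm.two_dvd_card_support hσ
  rw [Nat.card_eq_fintype_card] at heven
  rw [Nat.card_eq_fintype_card, Fintype.card_subtype]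
  obtain ⟨a, ha⟩ := this
  obtain ⟨b, hb⟩ := heven
  have := σ.support.card_le_univ
  exact Nat.odd_iff.2 (by omega)

theorem exists_invol [Finite G] (heven : Even (Nat.card G)) : ∃ t : G, orderOf t = 2 :=
  exists_prime_orderOf_dvd_card' 2 heven.two_dvd

theorem odd_card_iff_no_invol [Finite G] (H : Subgroup G) :
    Odd (Nat.card H) ↔ ∀ t ∈ H, orderOf t ≠ 2 := by
  constructor
  · intro hodd t ht h
    have := orderOf_dvd_natCard (⟨t, ht⟩ : H)
    rw [Subgroup.orderOf_mk, h] at this
    exact Nat.not_even_iff_odd.2 hodd (even_iff_two_dvd.2 this)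
  · intro h
    by_contra hodd
    obtain ⟨t, ht⟩ := exists_invol (G := H) (Nat.not_odd_iff_even.1 hodd)
    exact h t t.2 (by rw [Subgroup.orderOf_coe]; exact ht)

end Cfsg.Agent.Lib.Involutions.Basic
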