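import Mathlib
import Cfsg.Prelude.Def_Involutions
import Cfsg.Agent.Lib.Involutions.Basic

/-!
Elementary facts about strongly embedded subgroups.
-/

namespace Cfsg.Agent.Lib.Involutions.StronglyEmbedded

open Cfsg.Agent.Lib.Involutions.Basic
open scoped Pointwise

variable {G : Type*} [Group G] [Finite G] {H : Subgroup G}

omit [Finite G] in
theorem mem_conj_iff {g t : G} :
    t ∈ H.map (MulAut.conj g).toMonoidHom ↔ g⁻¹ * t * g ∈ H := by
  rw [Subgroup.mem_map_equiv, MulAut.conj_symm_apply]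

theorem mem_of_conj_mem (hSE : Cfsg.IsStronglyEmbedded H) {t g : G} (ht : orderOf t = 2)
    (htH : t ∈ H) (hg : g * t * g⁻¹ ∈ H) : g ∈ H := by
  by_contra hgH
  refine (odd_card_iff_no_invol _).1 (hSE.2.2 g hgH) (g * t * g⁻¹) ?_
    ((orderOf_conj_eq g t).trans ht)
  refine Subgroup.mem_inf.2 ⟨hg, mem_conj_iff.2 ?_⟩
  simpa [mul_assoc] using htH

theorem centralizer_le (hSE : Cfsg.IsStronglyEmbedded H) {t : G} (ht : orderOf t = 2)
    (htH : t ∈ H) : Subgroup.centralizer ({t} : Set G) ≤ H := fun g hg =>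
  mem_of_conj_mem hSE ht htH (by
    rw [Subgroup.mem_centralizer_singleton_iff.1 hg, mul_inv_cancel_right]; exact htH)

theorem of_forall_conj (hH : H ≠ ⊤) (heven : Even (Nat.card H))
    (h : ∀ t ∈ H, orderOf t = 2 → ∀ g : G, g * t * g⁻¹ ∈ H → g ∈ H) :
    Cfsg.IsStronglyEmbedded H := by
  refine ⟨hH, heven, fun g hg => (odd_card_iff_no_invol _).2 fun t ht h2 => hg ?_⟩
  obtain ⟨h1, h3⟩ := Subgroup.mem_inf.1 ht
  rw [mem_conj_iff] at h3
  refine h _ h3 ?_ g ?_
  · rw [← orderOf_conj_eq g⁻¹ t, inv_inv] at h2; exact h2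
  · simpa [mul_assoc] using h1

theorem isStronglyEmbedded_iff (hH : H ≠ ⊤) (heven : Even (Nat.card H)) :
    Cfsg.IsStronglyEmbedded H ↔
      ∀ t ∈ H, orderOf t = 2 → ∀ g : G, g * t * g⁻¹ ∈ H → g ∈ H :=
  ⟨fun hSE _ htH ht _ hg => mem_of_conj_mem hSE ht htH hg, of_forall_conj hH heven⟩

/-- Strong embedding in terms of centralisers and fusion. -/
theorem isStronglyEmbedded_iff_fusion (hH : H ≠ ⊤) (heven : Even (Nat.card H)) :
    Cfsg.IsStronglyEmbedded H ↔
      (∀ t ∈ H, orderOf t = 2 → Subgroup.centralizer ({t} : Set G) ≤ H) ∧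
        ∀ t ∈ H, ∀ s ∈ H, orderOf t = 2 → orderOf s = 2 → IsConj t s →
          ∃ h ∈ H, h * t * h⁻¹ = s := by
  constructor
  · intro hSE
    refine ⟨fun t htH ht => centralizer_le hSE ht htH, fun t htH s hsH ht _ hc => ?_⟩
    obtain ⟨g, hg⟩ := isConj_iff.1 hc
    exact ⟨g, mem_of_conj_mem hSE ht htH (hg ▸ hsH), hg⟩
  · rintro ⟨hC, hF⟩
    refine of_forall_conj hH heven fun t htH ht g hg => ?_
    obtain ⟨h, hh, he⟩ :=
      hF t htH _ hg ht ((orderOf_conj_eq g t).trans ht) (isConj_iff.2 ⟨g, rfl⟩)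
    have hc : h⁻¹ * g ∈ H := by
      refine hC t htH ht (Subgroup.mem_centralizer_singleton_iff.2 ?_)
      calc h⁻¹ * g * t = h⁻¹ * (g * t * g⁻¹) * g := by group
        _ = h⁻¹ * (h * t * h⁻¹) * g := by rw [he]
        _ = t * (h⁻¹ * g) := by group
    simpa using mul_mem hh hc

omit [Finite G] in
theorem smul_coset_eq_iff {t g : G} :
    t • (g : G ⧸ H) = (g : G ⧸ H) ↔ g⁻¹ * t * g ∈ H := by
  rw [MulAction.Quotient.smul_mk, eq_comm, QuotientGroup.eq, smul_eq_mul, mul_assoc]

/-- Strong embedding in terms of fixed cosets. -/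
theorem isStronglyEmbedded_iff_fixed (hH : H ≠ ⊤) (heven : Even (Nat.card H)) :
    Cfsg.IsStronglyEmbedded H ↔
      ∀ t ∈ H, orderOf t = 2 → Nat.card {c : G ⧸ H // t • c = c} = 1 := by
  rw [isStronglyEmbedded_iff hH heven]
  constructor
  · intro h t htH ht
    refine Nat.card_eq_one_iff_exists.2
      ⟨⟨((1 : G) : G ⧸ H), smul_coset_eq_iff.2 (by simpa using htH)⟩, ?_⟩
    rintro ⟨c, hc⟩
    induction c using QuotientGroup.induction_on with
    | H g =>
      apply Subtype.ext
      show (g : G ⧸ H) = ((1 : G) : G ⧸ H)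
      have := h t htH ht g⁻¹ (by simpa using smul_coset_eq_iff.1 hc)
      rw [eq_comm, QuotientGroup.eq]
      simpa using inv_mem this
  · intro h t htH ht g hg
    obtain ⟨c, hc⟩ := Nat.card_eq_one_iff_exists.1 (h t htH ht)
    have h1 := hc ⟨((g⁻¹ : G) : G ⧸ H), smul_coset_eq_iff.2 (by simpa using hg)⟩
    have h2 := hc ⟨((1 : G) : G ⧸ H), smul_coset_eq_iff.2 (by simpa using htH)⟩
    have h3 := congrArg Subtype.val (h1.trans h2.symm)
    simpa [QuotientGroup.eq] using h3

/-- A subgroup containing a Sylow `2`-subgroup contains a conjugate of each involution. -/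
theorem exists_conj_mem_of_sylow {P : Sylow 2 G} (hP : (P : Subgroup G) ≤ H) {u : G}
    (hu : orderOf u = 2) : ∃ g : G, g * u * g⁻¹ ∈ H := by
  have hpg : IsPGroup 2 (Subgroup.zpowers u) :=
    IsPGroup.of_card (n := 1) (by rw [Nat.card_zpowers, hu, pow_one])
  obtain ⟨Q, hQ⟩ := hpg.exists_le_sylow
  obtain ⟨g, hg⟩ := MulAction.exists_smul_eq G Q P
  refine ⟨g, hP ?_⟩
  rw [← hg, Sylow.coe_subgroup_smul]
  have := Subgroup.smul_mem_pointwise_smul (a := MulAut.conj g) u (Q : Subgroup G)
    (hQ (Subgroup.mem_zpowers u))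
  simpa using this

/-- A strongly embedded subgroup contains a Sylow `2`-subgroup of the group. -/
theorem exists_sylow_le (hSE : Cfsg.IsStronglyEmbedded H) :
    ∃ P : Sylow 2 G, (P : Subgroup G) ≤ H := by
  classical
  obtain ⟨P⟩ := (inferInstance : Nonempty (Sylow 2 H))
  have hp : IsPGroup 2 ((P : Subgroup H).map H.subtype) := P.2.map _
  obtain ⟨Q, hQ⟩ := hp.exists_le_sylow
  refine ⟨Q, ?_⟩
  obtain ⟨t, ht⟩ := exists_invol (G := H) hSE.2.1
  -- the Sylow subgroup of `H` contains an involution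
  have hpg : IsPGroup 2 (Subgroup.zpowers t) :=
    IsPGroup.of_card (n := 1) (by rw [Nat.card_zpowers, ht, pow_one])
  obtain ⟨P', hP'⟩ := hpg.exists_le_sylow
  obtain ⟨h, hh⟩ := MulAction.exists_smul_eq H P' P
  set s : H := h * t * h⁻¹ with hs
  have hsP : s ∈ (P : Subgroup H) := by
    rw [← hh, Sylow.coe_subgroup_smul]
    simpa [hs] using Subgroup.smul_mem_pointwise_smul (a := MulAut.conj h) t (P' : Subgroup H)
      (hP' (Subgroup.mem_zpowers t))
  have hso : orderOf (s : G) = 2 := by rw [Subgroup.orderOf_coe, hs, orderOf_conj_eq, ht]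
  -- an element of the normaliser of the image of `P` lies in `H`
  by_contra hle
  have hlt : (P : Subgroup H).map H.subtype < (Q : Subgroup G) :=
    lt_of_le_of_ne hQ fun h' => hle (h' ▸ Subgroup.map_subtype_le _)
  set P₀ := ((P : Subgroup H).map H.subtype).subgroupOf (Q : Subgroup G) with hP₀
  have hne : P₀ < ⊤ := by
    rw [lt_top_iff_ne_top, hP₀, ne_eq, Subgroup.subgroupOf_eq_top]
    exact hlt.not_ge
  have : Group.IsNilpotent Q := Q.2.isNilpotent
  obtain ⟨g, hgN, hgP⟩ := SetLike.exists_of_lt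
    (Group.normalizerCondition_of_isNilpotent P₀ hne)
  have hgH : (g : G) ∈ H := by
    refine mem_of_conj_mem hSE hso s.2 ?_
    have h1 : (⟨(s : G), hQ ⟨s, hsP, rfl⟩⟩ : Q) ∈ P₀ := Subgroup.mem_subgroupOf.2 ⟨s, hsP, rfl⟩
    have h2 := (Subgroup.mem_normalizer_iff.1 hgN _).1 h1
    exact Subgroup.map_subtype_le _ (Subgroup.mem_subgroupOf.1 h2)
  -- hence it extends `P` to a larger 2-subgroup of `H`
  have hpQ : IsPGroup 2 ((Q : Subgroup G).subgroupOf H) :=
    Q.2.comap_of_injective H.subtype (Subgroup.subtype_injective H)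
  have hPQ : (P : Subgroup H) ≤ (Q : Subgroup G).subgroupOf H := fun a ha =>
    Subgroup.mem_subgroupOf.2 (hQ ⟨a, ha, rfl⟩)
  have hEq := P.3 hpQ hPQ
  have : (⟨(g : G), hgH⟩ : H) ∈ (Q : Subgroup G).subgroupOf H := g.2
  rw [hEq] at this
  exact hgP (Subgroup.mem_subgroupOf.2 ⟨_, this, rfl⟩)

theorem exists_conj_mem (hSE : Cfsg.IsStronglyEmbedded H) {u : G} (hu : orderOf u = 2) :
    ∃ g : G, g * u * g⁻¹ ∈ H := by
  obtain ⟨P, hP⟩ := exists_sylow_le hSE
  exact exists_conj_mem_of_sylow hP hu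

/-- In a group with a strongly embedded subgroup all involutions are conjugate. -/
theorem isConj_involutions (hSE : Cfsg.IsStronglyEmbedded H) {s t : G} (hs : orderOf s = 2)
    (ht : orderOf t = 2) : IsConj s t := by
  -- an involution inside and one outside are conjugate
  have key : ∀ u v : G, orderOf u = 2 → orderOf v = 2 → u ∈ H → v ∉ H → IsConj u v := by
    intro u v hu hv huH hvH
    refine by_contra fun hnc => hvH ?_
    obtain ⟨hz, hzu, hzv⟩ := central_invol hu hv (even_of_not_isConj hu hv hnc)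
    have hzH := centralizer_le hSE hu huH (Subgroup.mem_centralizer_singleton_iff.2 hzu.eq)
    exact centralizer_le hSE hz hzH (Subgroup.mem_centralizer_singleton_iff.2 hzv.eq.symm)
  -- there is an involution outside
  obtain ⟨g, -, hg⟩ := SetLike.exists_of_lt (lt_top_iff_ne_top.2 hSE.1)
  obtain ⟨t₀, ht₀H, ht₀⟩ : ∃ t₀ : G, t₀ ∈ H ∧ orderOf t₀ = 2 := by
    obtain ⟨t₀, ht₀⟩ := exists_invol (G := H) hSE.2.1
    exact ⟨t₀, t₀.2, by rw [Subgroup.orderOf_coe]; exact ht₀⟩
  have hout : g * t₀ * g⁻¹ ∉ H := fun h => hg (mem_of_conj_mem hSE ht₀ ht₀H h)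
  have hall : ∀ u : G, orderOf u = 2 → IsConj u (g * t₀ * g⁻¹) := by
    intro u hu
    obtain ⟨k, hk⟩ := exists_conj_mem hSE hu
    exact (isConj_iff.2 ⟨k, rfl⟩).trans
      (key _ _ ((orderOf_conj_eq k u).trans hu) ((orderOf_conj_eq g t₀).trans ht₀) hk hout)
  exact (hall s hs).trans (hall t ht).symm

omit [Finite G] in
/-- Proper subgroups of a nilpotent subgroup grow in their normalisers there. -/
theorem lt_inf_normalizer {X P : Subgroup G} [Group.IsNilpotent P] (h : X < P) :
    X < P ⊓ Subgroup.normalizer (X : Set G) := by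
  refine lt_of_le_of_ne (le_inf h.le Subgroup.le_normalizer) fun heq => ?_
  have hlt : X.subgroupOf P < ⊤ := by
    rw [lt_top_iff_ne_top, ne_eq, Subgroup.subgroupOf_eq_top]
    exact h.not_ge
  obtain ⟨g, hgN, hgX⟩ := SetLike.exists_of_lt
    (Group.normalizerCondition_of_isNilpotent _ hlt)
  refine hgX (Subgroup.mem_subgroupOf.2 (heq ▸ Subgroup.mem_inf.2 ⟨g.2, ?_⟩ : (g : G) ∈ X))
  rw [Subgroup.mem_normalizer_iff]
  intro a
  constructor
  · intro ha
    have := (Subgroup.mem_normalizer_iff.1 hgN ⟨a, h.le ha⟩).1 (Subgroup.mem_subgroupOf.2 ha)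
    simpa [Subgroup.mem_subgroupOf] using this
  · intro ha
    have haP : a ∈ P := by
      have := mul_mem (mul_mem (inv_mem g.2) (h.le ha)) g.2
      simpa [mul_assoc] using this
    have := (Subgroup.mem_normalizer_iff.1 hgN ⟨a, haP⟩).2 (Subgroup.mem_subgroupOf.2 (by simpa using ha))
    simpa [Subgroup.mem_subgroupOf] using this

/-- A `2`-subgroup of `H` can be moved into a Sylow `2`-subgroup of `H` by an element of `H`. -/
theorem exists_conj_le_sylow (P : Sylow 2 H) {W : Subgroup G} (hW : IsPGroup 2 W) (hWH : W ≤ H) :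
    ∃ h ∈ H, W.map (MulAut.conj h).toMonoidHom ≤ (P : Subgroup H).map H.subtype := by
  have hpW : IsPGroup 2 (W.subgroupOf H) :=
    hW.comap_of_injective H.subtype (Subgroup.subtype_injective H)
  obtain ⟨Q, hQ⟩ := hpW.exists_le_sylow
  obtain ⟨h, hh⟩ := MulAction.exists_smul_eq H Q P
  refine ⟨h, h.2, ?_⟩
  rintro _ ⟨w, hw, rfl⟩
  refine ⟨h * ⟨w, hWH hw⟩ * h⁻¹, ?_, rfl⟩
  rw [SetLike.mem_coe, ← hh, Sylow.coe_subgroup_smul]
  simpa using Subgroup.smul_mem_pointwise_smul (a := MulAut.conj h) (⟨w, hWH hw⟩ : H)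
    (Q : Subgroup H) (hQ (Subgroup.mem_subgroupOf.2 hw))

/-- A weak closure criterion: if the normalisers of all nontrivial subgroups of a Sylow
`2`-subgroup of `H` lie in `H`, then an element conjugating one such subgroup into another lies
in `H`. -/
theorem mem_of_map_conj_le (P : Sylow 2 H)
    (hN : ∀ X : Subgroup G, X ≤ (P : Subgroup H).map H.subtype → X ≠ ⊥ →
      Subgroup.normalizer (X : Set G) ≤ H)
    {X : Subgroup G} (hX : X ≤ (P : Subgroup H).map H.subtype) (hX1 : X ≠ ⊥) {g : G}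
    (hg : X.map (MulAut.conj g).toMonoidHom ≤ (P : Subgroup H).map H.subtype) : g ∈ H := by
  set P' := (P : Subgroup H).map H.subtype with hP'
  induction hn : Nat.card P' - Nat.card X using Nat.strong_induction_on generalizing X g with
  | _ n IH =>
    have hinj : Function.Injective (MulAut.conj g).toMonoidHom := (MulAut.conj g).injective
    have hcardmap : Nat.card (X.map (MulAut.conj g).toMonoidHom) = Nat.card X :=
      Subgroup.card_map_of_injective hinj
    rcases hX.eq_or_lt with h | h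
    · refine hN X hX hX1 ?_
      have : X.map (MulAut.conj g).toMonoidHom = X :=
        Subgroup.eq_of_le_of_card_ge (h.symm ▸ hg) hcardmap.ge
      rw [Subgroup.mem_normalizer_iff]
      intro a
      conv_rhs => rw [← this]
      rw [mem_conj_iff]
      simp [mul_assoc]
    · have hpP : IsPGroup 2 P' := P.2.map _
      have : Group.IsNilpotent P' := hpP.isNilpotent
      have hlt := lt_inf_normalizer h
      set W := P' ⊓ Subgroup.normalizer (X : Set G) with hW
      have hWH : W.map (MulAut.conj g).toMonoidHom ≤ H := by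
        refine le_trans ?_ (hN _ hg fun h0 => hX1 ((Subgroup.map_eq_bot_iff_of_injective _ hinj).1 h0))
        rintro _ ⟨w, hw, rfl⟩
        have hwN := Subgroup.mem_normalizer_iff.1 (Subgroup.mem_inf.1 hw).2
        rw [Subgroup.mem_normalizer_iff]
        intro a
        rw [mem_conj_iff, mem_conj_iff, hwN]
        simp [mul_assoc]
      obtain ⟨h', hh', hle⟩ := exists_conj_le_sylow P ((hpP.to_le inf_le_left).map _) hWH
      rw [Subgroup.map_map] at hle
      have hcomp : (MulAut.conj h').toMonoidHom.comp (MulAut.conj g).toMonoidHom =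
          (MulAut.conj (h' * g)).toMonoidHom := by rw [map_mul]; rfl
      rw [hcomp] at hle
      have := IH (Nat.card P' - Nat.card W) (by
        have h1 : Nat.card X < Nat.card W := by
          refine lt_of_le_of_ne (Subgroup.card_le_of_le hlt.le) fun he => hlt.ne ?_
          exact Subgroup.eq_of_le_of_card_ge hlt.le he.ge
        have h2 : Nat.card W ≤ Nat.card P' := Subgroup.card_le_of_le inf_le_left
        omega) (fun h0 => hX1 (le_bot_iff.1 (hlt.le.trans_eq h0))) inf_le_left hle rfl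
      simpa using mul_mem (inv_mem hh') this

/-- Strong embedding in terms of normalisers of `2`-subgroups. -/
theorem isStronglyEmbedded_iff_normalizer (hH : H ≠ ⊤) (P : Sylow 2 H)
    (hP : (P : Subgroup H) ≠ ⊥) :
    Cfsg.IsStronglyEmbedded H ↔ ∀ X : Subgroup H, X ≤ (P : Subgroup H) → X ≠ ⊥ →
      Subgroup.normalizer ((X.map H.subtype : Subgroup G) : Set G) ≤ H := by
  constructor
  · intro hSE X hX hX1 g hg
    have hXp : IsPGroup 2 X := P.2.to_le hX
    have heven : Even (Nat.card X) := by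
      obtain ⟨n, hn⟩ := IsPGroup.iff_card.1 hXp
      rcases n.eq_zero_or_pos with rfl | hpos
      · exact absurd (Subgroup.card_eq_one.1 (by simpa using hn)) hX1
      · rw [hn]; exact even_two.pow_of_ne_zero (by omega)
    obtain ⟨t, ht⟩ := exists_invol (G := X) heven
    have ht2 : orderOf ((t : H) : G) = 2 := by rw [Subgroup.orderOf_coe, Subgroup.orderOf_coe, ht]
    exact mem_of_conj_mem hSE ht2 (t : H).2 (Subgroup.map_subtype_le _
      ((Subgroup.mem_normalizer_iff.1 hg _).1 ⟨t, t.2, rfl⟩))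
  · intro h
    have hN : ∀ X : Subgroup G, X ≤ (P : Subgroup H).map H.subtype → X ≠ ⊥ →
        Subgroup.normalizer (X : Set G) ≤ H := by
      intro X hX hX1
      have hXH : X ≤ H := hX.trans (Subgroup.map_subtype_le _)
      have hXe : (X.subgroupOf H).map H.subtype = X := by
        rw [Subgroup.subgroupOf_map_subtype, inf_eq_left.2 hXH]
      have h' := h (X.subgroupOf H) (fun a ha => by
        obtain ⟨b, hb, hba⟩ := hX (Subgroup.mem_subgroupOf.1 ha)
        rwa [← Subgroup.subtype_injective H hba]) (fun h0 => hX1 (by rw [← hXe, h0, Subgroup.map_bot]))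
      rwa [hXe] at h'
    have heven : Even (Nat.card H) := by
      obtain ⟨n, hn⟩ := IsPGroup.iff_card.1 P.2
      rcases n.eq_zero_or_pos with rfl | hpos
      · exact absurd (Subgroup.card_eq_one.1 (by simpa using hn)) hP
      · refine even_iff_two_dvd.2 (dvd_trans ?_ (Subgroup.card_subgroup_dvd_card (P : Subgroup H)))
        rw [hn]; exact dvd_pow_self 2 (by omega)
    refine of_forall_conj hH heven fun t htH ht g hg => ?_
    have hpg : ∀ u : G, orderOf u = 2 → IsPGroup 2 (Subgroup.zpowers u) := fun u hu =>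
      IsPGroup.of_card (n := 1) (by rw [Nat.card_zpowers, hu, pow_one])
    obtain ⟨h₁, hh₁, hle₁⟩ := exists_conj_le_sylow P (hpg t ht)
      (Subgroup.zpowers_le.2 htH)
    obtain ⟨h₂, hh₂, hle₂⟩ := exists_conj_le_sylow P (hpg _ ((orderOf_conj_eq g t).trans ht))
      (Subgroup.zpowers_le.2 hg)
    have key := mem_of_map_conj_le P hN (g := h₂ * g * h₁⁻¹) hle₁ (by
      rw [MonoidHom.map_zpowers, Subgroup.zpowers_ne_bot]
      simpa using invol_ne_one ht) (by
      rw [MonoidHom.map_zpowers, MonoidHom.map_zpowers]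
      rw [MonoidHom.map_zpowers] at hle₂
      simpa [mul_assoc] using hle₂)
    have := mul_mem (mul_mem (inv_mem hh₂) key) hh₁
    simpa [mul_assoc] using this

/-- If a non-normal Sylow `2`-subgroup meets each other conjugate trivially, its normaliser is
strongly embedded. -/
theorem isStronglyEmbedded_normalizer_of_ti (T : Sylow 2 G) (hnn : ¬ (T : Subgroup G).Normal)
    (hTI : ∀ g : G, MulAut.conj g • (T : Subgroup G) ≠ T →
      MulAut.conj g • (T : Subgroup G) ⊓ T = ⊥) :
    Cfsg.IsStronglyEmbedded (Subgroup.normalizer ((T : Subgroup G) : Set G)) := by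
  set N := Subgroup.normalizer ((T : Subgroup G) : Set G) with hN
  have hne : N ≠ ⊤ := fun h => hnn (Subgroup.normalizer_eq_top_iff.1 h)
  have hTne : (T : Subgroup G) ≠ ⊥ := fun h => hnn (h ▸ inferInstance)
  have heven : Even (Nat.card N) := by
    obtain ⟨n, hn⟩ := IsPGroup.iff_card.1 T.2
    rcases n.eq_zero_or_pos with rfl | hpos
    · exact absurd (Subgroup.card_eq_one.1 (by simpa using hn)) hTne
    · refine even_iff_two_dvd.2 (dvd_trans ?_ (Subgroup.card_dvd_of_le Subgroup.le_normalizer))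
      rw [hn]; exact dvd_pow_self 2 (by omega)
  -- involutions of the normaliser lie in `T`
  have hmem : ∀ t ∈ N, orderOf t = 2 → t ∈ (T : Subgroup G) := by
    intro t htN ht
    have hpg : IsPGroup 2 (Subgroup.zpowers t) :=
      IsPGroup.of_card (n := 1) (by rw [Nat.card_zpowers, ht, pow_one])
    have hsup : IsPGroup 2 ↥((T : Subgroup G) ⊔ Subgroup.zpowers t) :=
      IsPGroup.to_sup_of_normal_left' T.2 hpg (Subgroup.zpowers_le.2 htN)
    have := T.3 hsup le_sup_left
    rw [← this]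
    exact Subgroup.mem_sup_right (Subgroup.mem_zpowers t)
  refine of_forall_conj hne heven fun t htN ht g hg => ?_
  by_contra hgN
  have hne' : MulAut.conj g • (T : Subgroup G) ≠ T := fun h => hgN (by
    rw [hN, Subgroup.mem_normalizer_iff]
    intro a
    conv_rhs => rw [← h]
    exact (Subgroup.smul_mem_pointwise_smul_iff (a := MulAut.conj g)).symm)
  have hin : g * t * g⁻¹ ∈ MulAut.conj g • (T : Subgroup G) ⊓ T :=
    Subgroup.mem_inf.2 ⟨(Subgroup.smul_mem_pointwise_smul_iff (a := MulAut.conj g)).2 (hmem t htN ht),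
      hmem _ hg ((orderOf_conj_eq g t).trans ht)⟩
  rw [hTI g hne', Subgroup.mem_bot] at hin
  exact invol_ne_one ((orderOf_conj_eq g t).trans ht) hin

end Cfsg.Agent.Lib.Involutions.StronglyEmbedded
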