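import Mathlib
import Cfsg.Agent.Lib.Involutions.Basic
import Cfsg.Agent.Lib.Involutions.StronglyEmbedded

/-!
Subgroups of index two from cyclic Sylow `2`-subgroups.
-/

namespace Cfsg.Agent.Lib.Involutions.IndexTwo

open Cfsg.Agent.Lib.Involutions.Basic

variable {G : Type*} [Group G] [Finite G]

/-- A group of even order with cyclic Sylow `2`-subgroups has a subgroup of index two. -/
theorem exists_index_two_of_cyclic_sylow (heven : Even (Nat.card G)) (T : Sylow 2 G)
    (hT : IsCyclic (T : Subgroup G)) : ∃ H : Subgroup G, H.index = 2 := by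
  have hp : (Nat.card G).minFac = 2 := Nat.minFac_eq_two_iff _ |>.2 heven.two_dvd
  obtain ⟨K, hKn, hK⟩ : ∃ K : Subgroup G, K.Normal ∧ K.IsComplement' (T : Subgroup G) :=
    ⟨_, inferInstance, hT.isComplement' hp⟩
  obtain ⟨k, hk⟩ := IsPGroup.iff_card.1 T.2
  have hidx : K.index = 2 ^ k := by rw [← hk, hK.symm.index_eq_card]
  have hk0 : k ≠ 0 := by
    intro h0
    have h2 : ¬ 2 ∣ (T : Subgroup G).index := T.not_dvd_index
    have h3 := Subgroup.card_mul_index (T : Subgroup G)
    rw [hk, h0, pow_zero, one_mul] at h3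
    exact h2 (h3 ▸ heven.two_dvd)
  obtain ⟨j, rfl⟩ := Nat.exists_eq_succ_of_ne_zero hk0
  have hcard : Nat.card (G ⧸ K) = 2 ^ (j + 1) := hidx
  obtain ⟨H, hH⟩ := Sylow.exists_subgroup_card_pow_prime (G := G ⧸ K) (n := j) 2
    (by rw [hcard]; exact pow_dvd_pow 2 (Nat.le_succ j))
  refine ⟨H.comap (QuotientGroup.mk' K), ?_⟩
  rw [Subgroup.index_comap_of_surjective _ (QuotientGroup.mk'_surjective K)]
  have h4 := Subgroup.card_mul_index H
  rw [hcard, hH, pow_succ] at h4
  exact Nat.eq_of_mul_eq_mul_left (by positivity) h4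

/-- A group of order twice an odd number has a subgroup of index two. -/
theorem exists_index_two_of_mod_four (h : Nat.card G % 4 = 2) :
    ∃ H : Subgroup G, H.index = 2 := by
  obtain ⟨T⟩ := (inferInstance : Nonempty (Sylow 2 G))
  refine exists_index_two_of_cyclic_sylow (Nat.even_iff.2 (by omega)) T ?_
  obtain ⟨k, hk⟩ := IsPGroup.iff_card.1 T.2
  have hd : 2 ^ k ∣ Nat.card G := hk ▸ Subgroup.card_subgroup_dvd_card _
  have : k ≤ 1 := by
    by_contra hlt
    have := (pow_dvd_pow 2 (show 2 ≤ k by omega)).trans hd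
    omega
  interval_cases k
  · have : Subsingleton (T : Subgroup G) := (Nat.card_eq_one_iff_unique.1 (by simpa using hk)).1
    infer_instance
  · exact isCyclic_of_prime_card (p := 2) (by simpa using hk)

/-- If the centraliser of an involution has cyclic Sylow `2`-subgroups then so has the group. -/
theorem exists_index_two_of_cyclic_sylow_centralizer' (x : G) (hx : orderOf x = 2)
    (C : Subgroup G) (hC : C = Subgroup.centralizer ({x} : Set G)) (S : Sylow 2 C)
    (hS : IsCyclic (S : Subgroup C)) : ∃ H : Subgroup G, H.index = 2 := by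
  have hxC : x ∈ C := hC ▸ Subgroup.mem_centralizer_singleton_iff.2 rfl
  have hpx : IsPGroup 2 (Subgroup.zpowers (⟨x, hxC⟩ : C)) :=
    IsPGroup.of_card (n := 1) (by rw [Nat.card_zpowers, Subgroup.orderOf_mk, hx, pow_one])
  have hxS : (⟨x, hxC⟩ : C) ∈ (S : Subgroup C) := by
    have hn : Subgroup.zpowers (⟨x, hxC⟩ : C) ≤
        Subgroup.normalizer ((S : Subgroup C) : Set C) := by
      rw [Subgroup.zpowers_le, Subgroup.mem_normalizer_iff]
      intro a
      have : (⟨x, hxC⟩ : C) * a * (⟨x, hxC⟩ : C)⁻¹ = a := by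
        apply Subtype.ext
        show x * (a : G) * x⁻¹ = a
        have ha : (a : G) ∈ Subgroup.centralizer ({x} : Set G) := hC ▸ a.2
        rw [← Subgroup.mem_centralizer_singleton_iff.1 ha, mul_inv_cancel_right]
      rw [this]
    rw [← S.3 (IsPGroup.to_sup_of_normal_left' S.2 hpx hn) le_sup_left]
    exact Subgroup.mem_sup_right (Subgroup.mem_zpowers _)
  set S' := (S : Subgroup C).map C.subtype with hS'
  have hcyc : IsCyclic S' :=
    (((S : Subgroup C).equivMapOfInjective C.subtype (Subgroup.subtype_injective C)).isCyclic).1 hS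
  have hxS' : x ∈ S' := ⟨_, hxS, rfl⟩
  obtain ⟨Q, hQ⟩ := (S.2.map C.subtype).exists_le_sylow
  have hQS : (Q : Subgroup G) = S' := by
    by_contra hne
    have hlt : S' < (Q : Subgroup G) := lt_of_le_of_ne hQ (Ne.symm hne)
    have : Group.IsNilpotent (Q : Subgroup G) := Q.2.isNilpotent
    have hlt' := StronglyEmbedded.lt_inf_normalizer hlt
    obtain ⟨w, hwW, hwS⟩ := SetLike.exists_of_lt hlt'
    obtain ⟨s, hs⟩ := hcyc.exists_generator
    have huniq : ∀ y ∈ S', orderOf y = 2 → y = (s : G) ^ (orderOf (s : G) / 2) := by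
      intro y hy hy2
      refine (invol_unique_zpowers hy2 ?_).2
      obtain ⟨k, hk⟩ := Subgroup.mem_zpowers_iff.1 (hs ⟨y, hy⟩)
      exact Subgroup.mem_zpowers_iff.2 ⟨k, congrArg Subtype.val hk⟩
    have hWC : (Q : Subgroup G) ⊓ Subgroup.normalizer (S' : Set G) ≤ C := by
      intro v hv
      have h1 : v * x * v⁻¹ ∈ S' :=
        (Subgroup.mem_normalizer_iff.1 (Subgroup.mem_inf.1 hv).2 x).1 hxS'
      have h2 : v * x * v⁻¹ = x := by
        rw [huniq _ h1 ((orderOf_conj_eq v x).trans hx), huniq x hxS' hx]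
      exact hC ▸ Subgroup.mem_centralizer_singleton_iff.2 (mul_inv_eq_iff_eq_mul.1 h2)
    have hpW : IsPGroup 2 (((Q : Subgroup G) ⊓ Subgroup.normalizer (S' : Set G)).subgroupOf C) :=
      (Q.2.to_le inf_le_left).comap_of_injective C.subtype (Subgroup.subtype_injective C)
    have hSW := S.3 hpW (fun a ha => Subgroup.mem_subgroupOf.2 (hlt'.le ⟨a, ha, rfl⟩))
    refine hwS ⟨⟨w, hWC hwW⟩, ?_, rfl⟩
    rw [SetLike.mem_coe, ← hSW]
    exact Subgroup.mem_subgroupOf.2 hwW
  refine exists_index_two_of_cyclic_sylow ?_ Q (by rw [hQS]; exact hcyc)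
  exact even_iff_two_dvd.2 (hx ▸ orderOf_dvd_natCard x)

/-- If the centraliser of an involution has cyclic Sylow `2`-subgroups then the group has a
subgroup of index two. -/
theorem exists_index_two_of_cyclic_sylow_centralizer (x : G) (hx : orderOf x = 2)
    (S : Sylow 2 (Subgroup.centralizer ({x} : Set G)))
    (hS : IsCyclic (S : Subgroup (Subgroup.centralizer ({x} : Set G)))) :
    ∃ H : Subgroup G, H.index = 2 :=
  exists_index_two_of_cyclic_sylow_centralizer' x hx _ rfl S hS

end Cfsg.Agent.Lib.Involutions.IndexTwo
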