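import Mathlib
import Cfsg.Agent.Lib.Involutions.Basic

/-!
Groups with Klein four Sylow `2`-subgroups.
-/

namespace Cfsg.Agent.Lib.Involutions.KleinSylow

open Cfsg.Agent.Lib.Involutions.Basic

variable {G : Type*} [Group G] [Finite G] {P : Sylow 2 G}

theorem sq_eq_one (hP : IsKleinFour (P : Subgroup G)) {a : G} (ha : a ∈ P) : a * a = 1 :=
  congrArg Subtype.val (IsKleinFour.mul_self (⟨a, ha⟩ : (P : Subgroup G)))

theorem orderOf_mem (hP : IsKleinFour (P : Subgroup G)) {a : G} (ha : a ∈ P) (ha1 : a ≠ 1) :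
    orderOf a = 2 :=
  invol_iff.2 ⟨sq_eq_one hP ha, ha1⟩

theorem exists_normalizer_conj (hP : IsKleinFour (P : Subgroup G)) {a b : G} (ha : a ∈ P)
    (hb : b ∈ P) (h : IsConj a b) :
    ∃ n ∈ Subgroup.normalizer ((P : Subgroup G) : Set G), n * a * n⁻¹ = b := by
  obtain ⟨g, hg⟩ := isConj_iff.1 h
  have : IsMulCommutative (P : Subgroup G) := IsKleinFour.isMulCommutative
  obtain ⟨n, hn, he⟩ := Sylow.conj_eq_normalizer_conj_of_mem P a g⁻¹ ha (by
    rw [inv_inv, hg]; exact hb)
  refine ⟨n⁻¹, inv_mem hn, ?_⟩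
  rw [inv_inv] at he ⊢
  rw [← he, hg]

/-- An element of the normaliser never interchanges two elements of the Sylow subgroup. -/
theorem no_swap (hP : IsKleinFour (P : Subgroup G)) {n a b : G}
    (hn : n ∈ Subgroup.normalizer ((P : Subgroup G) : Set G)) (ha : a ∈ P) (h1 : n * a * n⁻¹ = b)
    (h2 : n * b * n⁻¹ = a) : a = b := by
  obtain ⟨k, m, hm, hnm⟩ := Nat.exists_eq_pow_mul_and_not_dvd (orderOf_pos n).ne' 2 (by norm_num)
  obtain ⟨j, hj⟩ := Nat.odd_iff.2 (show m % 2 = 1 by omega)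
  have hfix : Commute (n ^ 2) a := by
    refine mul_inv_eq_iff_eq_mul.1 (?_ : n ^ 2 * a * (n ^ 2)⁻¹ = a)
    calc n ^ 2 * a * (n ^ 2)⁻¹ = n * (n * a * n⁻¹) * n⁻¹ := by
          rw [pow_two, mul_inv_rev]; simp only [mul_assoc]
      _ = a := by rw [h1, h2]
  have hsw : n ^ m * a * (n ^ m)⁻¹ = b := by
    rw [hj, pow_succ', pow_mul]
    calc n * (n ^ 2) ^ j * a * (n * (n ^ 2) ^ j)⁻¹
        = n * ((n ^ 2) ^ j * a * ((n ^ 2) ^ j)⁻¹) * n⁻¹ := by group
      _ = n * a * n⁻¹ := by rw [(hfix.pow_left j).eq, mul_inv_cancel_right]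
      _ = b := h1
  have hmem : n ^ m ∈ (P : Subgroup G) := by
    have hpg : IsPGroup 2 (Subgroup.zpowers (n ^ m)) := by
      have hd : orderOf (n ^ m) ∣ 2 ^ k := orderOf_dvd_of_pow_eq_one (by
        rw [← pow_mul, mul_comm, ← hnm, pow_orderOf_eq_one])
      obtain ⟨i, -, hi⟩ := (Nat.dvd_prime_pow Nat.prime_two).1 hd
      exact IsPGroup.of_card (n := i) (by rw [Nat.card_zpowers, hi])
    rw [← P.3 (IsPGroup.to_sup_of_normal_left' P.2 hpg
      (Subgroup.zpowers_le.2 (pow_mem hn m))) le_sup_left]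
    exact Subgroup.mem_sup_right (Subgroup.mem_zpowers _)
  have : IsMulCommutative (P : Subgroup G) := IsKleinFour.isMulCommutative
  rw [setLike_mul_comm hmem ha, mul_inv_cancel_right] at hsw
  exact hsw

/-- If two elements of the Sylow subgroup are fused then so are all three involutions. -/
theorem isConj_all (hP : IsKleinFour (P : Subgroup G)) {a b c : G} (ha : a ∈ P) (ha1 : a ≠ 1)
    (hb : b ∈ P) (hb1 : b ≠ 1) (hab : a ≠ b) (hconj : IsConj a b) (hc : c ∈ P) (hc1 : c ≠ 1) :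
    IsConj a c := by
  rcases eq_or_ne c a with rfl | hca
  · exact IsConj.refl _
  rcases eq_or_ne c b with rfl | hcb
  · exact hconj
  obtain ⟨n, hn, hnab⟩ := exists_normalizer_conj hP ha hb hconj
  set d := n * b * n⁻¹ with hd
  have hdP : d ∈ (P : Subgroup G) := (Subgroup.mem_normalizer_iff.1 hn b).1 hb
  have hd1 : d ≠ 1 := fun h => hb1 (by simpa [hd] using h)
  have hdb : d ≠ b := fun h => hab (by
    have : n * a * n⁻¹ = n * b * n⁻¹ := by rw [hnab]; exact h.symm
    simpa using this)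
  have hda : d ≠ a := fun h => hab (no_swap hP hn ha hnab h)
  have key : ∀ e : G, e ∈ (P : Subgroup G) → e ≠ 1 → e ≠ a → e ≠ b → e = a * b := by
    intro e he he1 hea heb
    exact congrArg Subtype.val (IsKleinFour.eq_mul_of_ne_all (x := (⟨a, ha⟩ : (P : Subgroup G)))
      (y := ⟨b, hb⟩) (z := ⟨e, he⟩) (by simpa using ha1) (by simpa using hb1)
      (by simpa using hab) (by simpa using he1) (by simpa using hea) (by simpa using heb))
  rw [key c hc hc1 hca hcb, ← key d hdP hd1 hda hdb]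
  exact hconj.trans (isConj_iff.2 ⟨n, rfl⟩)

/-- The classes of involutions. -/
abbrev InvClasses (G : Type*) [Group G] :=
  {C : ConjClasses G // ∃ t : G, orderOf t = 2 ∧ ConjClasses.mk t = C}

/-- The map from involutions of the Sylow subgroup to classes of involutions. -/
def classOf (hP : IsKleinFour (P : Subgroup G)) (a : {a : (P : Subgroup G) // a ≠ 1}) :
    InvClasses G :=
  ⟨ConjClasses.mk (a : G), (a : G), orderOf_mem hP a.1.2 (fun h => a.2 (Subtype.ext h)), rfl⟩

theorem classOf_surjective (hP : IsKleinFour (P : Subgroup G)) :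
    Function.Surjective (classOf hP) := by
  rintro ⟨_, t, ht, rfl⟩
  have hpg : IsPGroup 2 (Subgroup.zpowers t) :=
    IsPGroup.of_card (n := 1) (by rw [Nat.card_zpowers, ht, pow_one])
  obtain ⟨Q, hQ⟩ := hpg.exists_le_sylow
  obtain ⟨g, hg⟩ := MulAction.exists_smul_eq G Q P
  have hmem : g * t * g⁻¹ ∈ (P : Subgroup G) := by
    rw [← hg, Sylow.coe_subgroup_smul]
    simpa using Subgroup.smul_mem_pointwise_smul (a := MulAut.conj g) t (Q : Subgroup G)
      (hQ (Subgroup.mem_zpowers t))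
  have hne : (⟨g * t * g⁻¹, hmem⟩ : (P : Subgroup G)) ≠ 1 := fun h =>
    invol_ne_one ((orderOf_conj_eq g t).trans ht) (congrArg Subtype.val h)
  refine ⟨⟨⟨g * t * g⁻¹, hmem⟩, hne⟩, Subtype.ext ?_⟩
  exact ConjClasses.mk_eq_mk_iff_isConj.2 (isConj_iff.2 ⟨g⁻¹, by group⟩)

theorem card_ne_one (hP : IsKleinFour (P : Subgroup G)) :
    Nat.card {a : (P : Subgroup G) // a ≠ 1} = 3 := by
  classical
  have := Fintype.ofFinite G
  have h4 := hP.card_four
  rw [Nat.card_eq_fintype_card] at h4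
  rw [Nat.card_eq_fintype_card, Fintype.card_subtype_compl, Fintype.card_subtype_eq, h4]

/-- One or three classes of involutions. -/
theorem card_classes (hP : IsKleinFour (P : Subgroup G)) :
    Nat.card (InvClasses G) = 1 ∨ Nat.card (InvClasses G) = 3 := by
  have hs := classOf_surjective hP
  by_cases hi : Function.Injective (classOf hP)
  · right
    rw [← Nat.card_congr (Equiv.ofBijective _ ⟨hi, hs⟩), card_ne_one hP]
  · left
    simp only [Function.Injective, not_forall] at hi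
    obtain ⟨⟨⟨a, ha⟩, ha1⟩, ⟨⟨b, hb⟩, hb1⟩, he, hne⟩ := hi
    have hconj : IsConj a b := ConjClasses.mk_eq_mk_iff_isConj.1 (congrArg Subtype.val he)
    have hab : a ≠ b := fun h => hne (by subst h; rfl)
    have hne1 : ∀ (x : G) (hx : x ∈ (P : Subgroup G)),
        (⟨x, hx⟩ : (P : Subgroup G)) ≠ 1 → x ≠ 1 := fun x hx h h' => h (Subtype.ext h')
    have := Finite.of_surjective _ hs
    refine Nat.card_eq_one_iff_exists.2 ⟨classOf hP ⟨⟨a, ha⟩, ha1⟩, fun C => ?_⟩
    obtain ⟨⟨⟨c, hc⟩, hc1⟩, rfl⟩ := hs C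
    exact Subtype.ext (ConjClasses.mk_eq_mk_iff_isConj.2
      (isConj_all hP ha (hne1 a ha ha1) hb (hne1 b hb hb1) hab hconj hc (hne1 c hc hc1)).symm)

/-- Three classes exactly when there is a normal `2`-complement. -/
theorem card_classes_eq_three_iff (hP : IsKleinFour (P : Subgroup G)) :
    Nat.card (InvClasses G) = 3 ↔
      ∃ N : Subgroup G, N.Normal ∧ Subgroup.IsComplement' N (P : Subgroup G) := by
  have hs := classOf_surjective hP
  have := Finite.of_surjective _ hs
  constructor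
  · intro h3
    have hbij : Function.Bijective (classOf hP) :=
      (Nat.bijective_iff_surjective_and_card _).2 ⟨hs, by rw [card_ne_one hP, h3]⟩
    have hN : Subgroup.normalizer ((P : Subgroup G) : Set G) ≤
        Subgroup.centralizer ((P : Subgroup G) : Set G) := by
      intro n hn a ha
      rcases eq_or_ne a 1 with rfl | ha1
      · simp
      have hb : n * a * n⁻¹ ∈ (P : Subgroup G) := (Subgroup.mem_normalizer_iff.1 hn a).1 ha
      have := @hbij.1 ⟨⟨a, ha⟩, fun h => ha1 (congrArg Subtype.val h)⟩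
        ⟨⟨_, hb⟩, fun h => ha1 (by
          have h' := congrArg Subtype.val h
          simpa using h')⟩
        (Subtype.ext (ConjClasses.mk_eq_mk_iff_isConj.2 (isConj_iff.2 ⟨n, rfl⟩)))
      have h' : a = n * a * n⁻¹ := congrArg (fun z => ((z.1 : (P : Subgroup G)) : G)) this
      exact eq_mul_inv_iff_mul_eq.1 h'
    exact ⟨_, inferInstance, MonoidHom.ker_transferSylow_isComplement' P hN⟩
  · rintro ⟨N, hNn, hN⟩
    rw [← card_ne_one hP]
    symm
    refine Nat.card_congr (Equiv.ofBijective _ ⟨?_, hs⟩)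
    rintro ⟨⟨a, ha⟩, ha1⟩ ⟨⟨b, hb⟩, hb1⟩ he
    have hconj : IsConj a b := ConjClasses.mk_eq_mk_iff_isConj.1 (congrArg Subtype.val he)
    obtain ⟨g, hg⟩ := isConj_iff.1 hconj
    obtain ⟨⟨k, p⟩, hkp⟩ := (hN : Function.Bijective _).2 g
    have : IsMulCommutative (P : Subgroup G) := IsKleinFour.isMulCommutative
    change (k : G) * (p : G) = g at hkp
    subst hkp
    have hb' : b = (k : G) * a * (k : G)⁻¹ := by
      rw [← hg]
      calc (k : G) * p * a * ((k : G) * p)⁻¹ = k * (p * a * (p : G)⁻¹) * (k : G)⁻¹ := by group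
        _ = k * a * (k : G)⁻¹ := by rw [setLike_mul_comm p.2 ha, mul_inv_cancel_right]
    have hmem : a⁻¹ * b ∈ N := by
      rw [hb']
      have := mul_mem (hNn.conj_mem _ k.2 a⁻¹) (inv_mem k.2)
      simpa [mul_assoc] using this
    have h1 : a⁻¹ * b ∈ N ⊓ (P : Subgroup G) :=
      Subgroup.mem_inf.2 ⟨hmem, mul_mem (inv_mem ha) hb⟩
    rw [hN.disjoint.eq_bot, Subgroup.mem_bot, inv_mul_eq_one] at h1
    subst h1
    rfl

end Cfsg.Agent.Lib.Involutions.KleinSylow
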