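import Mathlib
import Cfsg.Agent.Lib.Involutions.Basic

/-!
The Thompson order formula and the bound for groups with two classes of involutions.
-/

namespace Cfsg.Agent.Lib.Involutions.Thompson

open Cfsg.Agent.Lib.Involutions.Basic

variable {G : Type*} [Group G] [Finite G]

/-- Orbit-stabiliser for conjugation. -/
theorem card_class_mul (t : G) :
    Nat.card {u : G // IsConj t u} * Nat.card (Subgroup.centralizer ({t} : Set G)) =
      Nat.card G := by
  have h1 : Nat.card {u : G // IsConj t u} = Nat.card (MulAction.orbit (ConjAct G) t) :=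
    Nat.card_congr (Equiv.subtypeEquivRight fun u => by
      rw [ConjAct.mem_orbit_conjAct, isConj_comm])
  rw [h1, Nat.card_congr (MulAction.orbitEquivQuotientStabilizer (ConjAct G) t),
    Subgroup.nat_card_centralizer_nat_card_stabilizer]
  exact (Subgroup.card_eq_card_quotient_mul_card_subgroup _).symm

theorem exists_invol_zpowers {x₁ x₂ : G} (h₁ : orderOf x₁ = 2) (h₂ : orderOf x₂ = 2)
    (hnc : ¬ IsConj x₁ x₂) {p : G × G} (hp1 : IsConj x₁ p.1) (hp2 : IsConj x₂ p.2) :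
    ∃ z : G, orderOf z = 2 ∧ z ∈ Subgroup.zpowers (p.1 * p.2) := by
  obtain ⟨a, ha⟩ := isConj_iff.1 hp1
  obtain ⟨b, hb⟩ := isConj_iff.1 hp2
  have hu : orderOf p.1 = 2 := by rw [← ha, orderOf_conj_eq, h₁]
  have hv : orderOf p.2 = 2 := by rw [← hb, orderOf_conj_eq, h₂]
  have he : Even (orderOf (p.1 * p.2)) :=
    even_of_not_isConj hu hv fun hc => hnc (hp1.trans (hc.trans hp2.symm))
  exact ⟨_, orderOf_pow_half he, Subgroup.npow_mem_zpowers _ _⟩

theorem invol_zpowers_eq {p : G × G} {z z' : G} (hz : orderOf z = 2) (hz' : orderOf z' = 2)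
    (hm : z ∈ Subgroup.zpowers (p.1 * p.2)) (hm' : z' ∈ Subgroup.zpowers (p.1 * p.2)) : z = z' :=
  (invol_unique_zpowers hz hm).2.trans (invol_unique_zpowers hz' hm').2.symm

theorem card_fibre {x₁ x₂ x : G} (hx : orderOf x = 2) :
    Nat.card {p : G × G // IsConj x₁ p.1 ∧ IsConj x₂ p.2 ∧
        ∃ z : G, IsConj x z ∧ z ∈ Subgroup.zpowers (p.1 * p.2)} =
      Nat.card {u : G // IsConj x u} *
        Nat.card {p : G × G // IsConj x₁ p.1 ∧ IsConj x₂ p.2 ∧
          x ∈ Subgroup.zpowers (p.1 * p.2)} := by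
  classical
  rw [← Nat.card_prod]
  symm
  let k : {u : G // IsConj x u} → G := fun u => (isConj_iff.1 u.2).choose
  have hk : ∀ u : {u : G // IsConj x u}, k u * x * (k u)⁻¹ = u := fun u =>
    (isConj_iff.1 u.2).choose_spec
  have hmap : ∀ (a : G) (p q : G), (MulAut.conj a) x ∈
      Subgroup.zpowers ((MulAut.conj a) p * (MulAut.conj a) q) ↔
        x ∈ Subgroup.zpowers (p * q) := by
    intro a p q
    rw [← map_mul]
    constructor
    · intro h
      obtain ⟨i, hi⟩ := Subgroup.mem_zpowers_iff.1 h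
      rw [← map_zpow] at hi
      exact Subgroup.mem_zpowers_iff.2 ⟨i, (MulAut.conj a).injective hi⟩
    · intro h
      obtain ⟨i, rfl⟩ := Subgroup.mem_zpowers_iff.1 h
      rw [map_zpow]
      exact Subgroup.zpow_mem_zpowers _ _
  refine Nat.card_congr (Equiv.ofBijective (fun uq =>
    (⟨(MulAut.conj (k uq.1) uq.2.1.1, MulAut.conj (k uq.1) uq.2.1.2),
      uq.2.2.1.trans (isConj_iff.2 ⟨k uq.1, rfl⟩),
      uq.2.2.2.1.trans (isConj_iff.2 ⟨k uq.1, rfl⟩),
      (uq.1 : G), uq.1.2, by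
        rw [← hk uq.1]
        exact (hmap _ _ _).2 uq.2.2.2.2⟩ : {p : G × G // IsConj x₁ p.1 ∧ IsConj x₂ p.2 ∧
          ∃ z : G, IsConj x z ∧ z ∈ Subgroup.zpowers (p.1 * p.2)})) ⟨?_, ?_⟩)
  · rintro ⟨u, ⟨⟨p, q⟩, h1, h2, h3⟩⟩ ⟨u', ⟨⟨p', q'⟩, h1', h2', h3'⟩⟩ h
    simp only [Subtype.mk.injEq, Prod.mk.injEq] at h
    have hu : u = u' := by
      apply Subtype.ext
      refine invol_zpowers_eq (p := (MulAut.conj (k u) p, MulAut.conj (k u) q)) ?_ ?_ ?_ ?_
      · rw [← hk u, orderOf_conj_eq, hx]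
      · rw [← hk u', orderOf_conj_eq, hx]
      · rw [← hk u]
        exact (hmap _ _ _).2 h3
      · show (u' : G) ∈ Subgroup.zpowers (MulAut.conj (k u) p * MulAut.conj (k u) q)
        rw [h.1, h.2, ← hk u']
        exact (hmap _ _ _).2 h3'
    subst hu
    simp only [EmbeddingLike.apply_eq_iff_eq] at h
    obtain ⟨rfl, rfl⟩ := h
    rfl
  · rintro ⟨⟨p, q⟩, h1, h2, z, hz, hzm⟩
    refine ⟨(⟨z, hz⟩, ⟨((MulAut.conj (k ⟨z, hz⟩)).symm p, (MulAut.conj (k ⟨z, hz⟩)).symm q),
      h1.trans (isConj_iff.2 ⟨(k ⟨z, hz⟩)⁻¹, by simp [MulAut.conj_symm_apply]⟩),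
      h2.trans (isConj_iff.2 ⟨(k ⟨z, hz⟩)⁻¹, by simp [MulAut.conj_symm_apply]⟩),
      (hmap (k ⟨z, hz⟩) _ _).1 ?_⟩), ?_⟩
    · rw [MulEquiv.apply_symm_apply, MulEquiv.apply_symm_apply, MulAut.conj_apply, hk]
      exact hzm
    · simp [mul_assoc]

/-- The Thompson order formula. -/
theorem order_formula (x₁ x₂ : G) (h₁ : orderOf x₁ = 2) (h₂ : orderOf x₂ = 2)
    (hnc : ¬ IsConj x₁ x₂) (hall : ∀ t : G, orderOf t = 2 → IsConj x₁ t ∨ IsConj x₂ t) :
    Nat.card G =
      Nat.card (Subgroup.centralizer ({x₂} : Set G)) *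
          Nat.card {p : G × G // IsConj x₁ p.1 ∧ IsConj x₂ p.2 ∧
            x₁ ∈ Subgroup.zpowers (p.1 * p.2)} +
        Nat.card (Subgroup.centralizer ({x₁} : Set G)) *
          Nat.card {p : G × G // IsConj x₁ p.1 ∧ IsConj x₂ p.2 ∧
            x₂ ∈ Subgroup.zpowers (p.1 * p.2)} := by
  classical
  have := Fintype.ofFinite G
  have e1 := card_class_mul x₁
  have e2 := card_class_mul x₂
  have hsplit : Nat.card {u : G // IsConj x₁ u} * Nat.card {u : G // IsConj x₂ u} =
      Nat.card {p : G × G // IsConj x₁ p.1 ∧ IsConj x₂ p.2 ∧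
          ∃ z : G, IsConj x₁ z ∧ z ∈ Subgroup.zpowers (p.1 * p.2)} +
        Nat.card {p : G × G // IsConj x₁ p.1 ∧ IsConj x₂ p.2 ∧
          ∃ z : G, IsConj x₂ z ∧ z ∈ Subgroup.zpowers (p.1 * p.2)} := by
    rw [← Nat.card_prod, ← Nat.card_congr (Equiv.subtypeProdEquivProd
      (p := fun u : G => IsConj x₁ u) (q := fun v : G => IsConj x₂ v))]
    simp only [Nat.card_eq_fintype_card]
    rw [← Fintype.card_subtype_or_disjoint]
    · refine Fintype.card_congr (Equiv.subtypeEquivRight fun p => ⟨fun h => ?_, fun h => ?_⟩)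
      · obtain ⟨z, hz, hzm⟩ := exists_invol_zpowers h₁ h₂ hnc h.1 h.2
        rcases hall z hz with hc | hc
        · exact Or.inl ⟨h.1, h.2, z, hc, hzm⟩
        · exact Or.inr ⟨h.1, h.2, z, hc, hzm⟩
      · rcases h with h | h <;> exact ⟨h.1, h.2.1⟩
    · rw [Pi.disjoint_iff]
      intro p
      simp only [Prop.disjoint_iff]
      rintro ⟨⟨-, -, z, hz, hzm⟩, -, -, z', hz', hzm'⟩
      obtain ⟨a, ha⟩ := isConj_iff.1 hz
      obtain ⟨b, hb⟩ := isConj_iff.1 hz'
      have := invol_zpowers_eq (by rw [← ha, orderOf_conj_eq, h₁])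
        (by rw [← hb, orderOf_conj_eq, h₂]) hzm hzm'
      exact hnc (hz.trans (this ▸ hz'.symm))
  rw [card_fibre h₁, card_fibre h₂] at hsplit
  set a₁ := Nat.card {u : G // IsConj x₁ u}
  set a₂ := Nat.card {u : G // IsConj x₂ u}
  set c₁ := Nat.card (Subgroup.centralizer ({x₁} : Set G))
  set c₂ := Nat.card (Subgroup.centralizer ({x₂} : Set G))
  set n₁ := Nat.card {p : G × G // IsConj x₁ p.1 ∧ IsConj x₂ p.2 ∧
            x₁ ∈ Subgroup.zpowers (p.1 * p.2)}
  set n₂ := Nat.card {p : G × G // IsConj x₁ p.1 ∧ IsConj x₂ p.2 ∧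
            x₂ ∈ Subgroup.zpowers (p.1 * p.2)}
  apply Nat.eq_of_mul_eq_mul_left (Nat.card_pos (α := G))
  calc Nat.card G * Nat.card G = (a₁ * c₁) * (a₂ * c₂) := by rw [e1, e2]
    _ = (a₁ * a₂) * (c₁ * c₂) := by ring
    _ = (a₁ * c₁) * (c₂ * n₁) + (a₂ * c₂) * (c₁ * n₂) := by rw [hsplit]; ring
    _ = Nat.card G * (c₂ * n₁ + c₁ * n₂) := by rw [e1, e2]; ring

/-- With two classes of involutions the order is below the cube of the largest involution
centraliser. -/
theorem card_lt_pow_three (s t : G) (hs : orderOf s = 2) (ht : orderOf t = 2)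
    (hnc : ¬ IsConj s t)
    (hmax : ∀ u : G, orderOf u = 2 → Nat.card (Subgroup.centralizer ({u} : Set G)) ≤
      Nat.card (Subgroup.centralizer ({t} : Set G))) :
    Nat.card G < Nat.card (Subgroup.centralizer ({t} : Set G)) ^ 3 := by
  classical
  have := Fintype.ofFinite G
  set c := Nat.card (Subgroup.centralizer ({t} : Set G)) with hc
  have hfc : ∀ u : G, (Finset.univ.filter
      fun a => a ∈ Subgroup.centralizer ({u} : Set G)).card =
      Nat.card (Subgroup.centralizer ({u} : Set G)) := fun u => by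
    rw [Nat.card_eq_fintype_card, Fintype.card_subtype]
  set Z := Finset.univ.filter (fun z : G => orderOf z = 2 ∧
    z ∈ Subgroup.centralizer ({t} : Set G)) with hZ
  have hsub : Finset.univ.filter (fun u : G => IsConj s u) ⊆
      Z.biUnion (fun z => Finset.univ.filter fun a => a ∈ Subgroup.centralizer ({z} : Set G)) := by
    intro u hu
    simp only [Finset.mem_filter, Finset.mem_univ, true_and] at hu
    obtain ⟨a, rfl⟩ := isConj_iff.1 hu
    have huo : orderOf (a * s * a⁻¹) = 2 := (orderOf_conj_eq a s).trans hs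
    obtain ⟨hz, hzu, hzt⟩ := central_invol huo ht
      (even_of_not_isConj huo ht fun h => hnc (hu.trans h))
    refine Finset.mem_biUnion.2 ⟨_, Finset.mem_filter.2 ⟨Finset.mem_univ _, hz,
      Subgroup.mem_centralizer_singleton_iff.2 hzt.eq⟩,
      Finset.mem_filter.2 ⟨Finset.mem_univ _, Subgroup.mem_centralizer_singleton_iff.2 hzu.eq.symm⟩⟩
  have h1 : Nat.card {u : G // IsConj s u} ≤ Z.card * c := by
    rw [Nat.card_eq_fintype_card, Fintype.card_subtype, ← smul_eq_mul, ← Finset.sum_const]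
    refine (Finset.card_le_card hsub).trans (Finset.card_biUnion_le.trans
      (Finset.sum_le_sum fun z hz => ?_))
    rw [hfc]
    exact hmax z (Finset.mem_filter.1 hz).2.1
  have h2 : Z.card < c := by
    rw [hc, ← hfc]
    refine Finset.card_lt_card (Finset.ssubset_iff_of_subset ?_ |>.2 ⟨1, ?_, ?_⟩)
    · intro z hz
      exact Finset.mem_filter.2 ⟨Finset.mem_univ _, (Finset.mem_filter.1 hz).2.2⟩
    · simp [one_mem]
    · simp [Z, orderOf_one]
  have h3 := hmax s hs
  have hc0 : 0 < c := Nat.card_pos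
  rw [← card_class_mul s]
  calc Nat.card {u : G // IsConj s u} * Nat.card (Subgroup.centralizer ({s} : Set G))
      ≤ (Z.card * c) * c := Nat.mul_le_mul h1 h3
    _ < (c * c) * c := by
        apply Nat.mul_lt_mul_of_pos_right _ hc0
        exact Nat.mul_lt_mul_of_pos_right h2 hc0
    _ = c ^ 3 := by ring

end Cfsg.Agent.Lib.Involutions.Thompson
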