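import Mathlib
import Cfsg.Agent.Lib.Involutions.Basic

/-!
The Baer-Suzuki theorem, by the argument of Alperin and Lyons.
-/

namespace Cfsg.Agent.Lib.Involutions.BaerSuzuki

open Cfsg.Agent.Lib.Involutions.Basic
open scoped Pointwise

variable {G : Type*} [Group G]

/-- The conjugates of `X` inside `P`. -/
def conjIn (X P : Subgroup G) : Set (Subgroup G) :=
  {Y | (∃ g : G, MulAut.conj g • X = Y) ∧ Y ≤ P}

theorem smul_mem_normalizer {P : Subgroup G} {g : G} (h : g ∈ Subgroup.normalizer (P : Set G)) :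
    MulAut.conj g • P = P := by
  ext a
  rw [Subgroup.mem_pointwise_smul_iff_inv_smul_mem]
  have e : (MulAut.conj g)⁻¹ • a = g⁻¹ * a * g := by simp [MulAut.smul_def]
  rw [e, Subgroup.mem_normalizer_iff.1 h]
  simp [mul_assoc]

theorem mem_normalizer_of_smul {P : Subgroup G} {g : G} (h : MulAut.conj g • P = P) :
    g ∈ Subgroup.normalizer (P : Set G) := by
  rw [Subgroup.mem_normalizer_iff]
  intro a
  conv_rhs => rw [← h]
  exact (Subgroup.smul_mem_pointwise_smul_iff (a := MulAut.conj g)).symm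

theorem smul_conjIn (X P : Subgroup G) (g : G) :
    (fun Y => MulAut.conj g • Y) '' conjIn X P = conjIn X (MulAut.conj g • P) := by
  ext Y
  constructor
  · rintro ⟨Z, ⟨⟨k, rfl⟩, hle⟩, rfl⟩
    exact ⟨⟨g * k, by rw [map_mul, mul_smul]⟩, Subgroup.pointwise_smul_le_pointwise_smul_iff.2 hle⟩
  · rintro ⟨⟨k, rfl⟩, hle⟩
    refine ⟨MulAut.conj g⁻¹ • MulAut.conj k • X, ⟨⟨g⁻¹ * k, by rw [map_mul, mul_smul]⟩, ?_⟩, ?_⟩
    · rw [map_inv, ← Subgroup.subset_pointwise_smul_iff]
      exact hle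
    · show MulAut.conj g • MulAut.conj g⁻¹ • MulAut.conj k • X = MulAut.conj k • X
      rw [map_inv, smul_inv_smul]

/-- An element permuting a set of subgroups normalises its join. -/
theorem mem_normalizer_sSup {S : Set (Subgroup G)} {g : G}
    (h : (fun Y => MulAut.conj g • Y) '' S = S) :
    g ∈ Subgroup.normalizer ((sSup S : Subgroup G) : Set G) := by
  apply mem_normalizer_of_smul
  apply le_antisymm
  · rw [Subgroup.pointwise_smul_subset_iff]
    refine sSup_le fun Y hY => ?_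
    rw [← Subgroup.pointwise_smul_subset_iff]
    exact le_sSup (h ▸ ⟨Y, hY, rfl⟩)
  · refine sSup_le fun Y hY => ?_
    rw [← h] at hY
    obtain ⟨Z, hZ, rfl⟩ := hY
    exact Subgroup.pointwise_smul_le_pointwise_smul_iff.2 (le_sSup hZ)

variable [Finite G] {p : ℕ} [Fact p.Prime]

theorem ncard_conjIn (X : Subgroup G) (P Q : Sylow p G) :
    (conjIn X (P : Subgroup G)).ncard = (conjIn X (Q : Subgroup G)).ncard := by
  obtain ⟨g, rfl⟩ := MulAction.exists_smul_eq G P Q
  rw [Sylow.coe_subgroup_smul, ← smul_conjIn,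
    Set.ncard_image_of_injective _ (MulAction.injective _)]

/-- If the conjugates in a Sylow subgroup `P` are not all in a set of conjugates `S`, then one of
them outside normalises the join of `S`. -/
theorem exists_normalizing {X : Subgroup G} {P : Subgroup G} (hP : IsPGroup p P)
    {S : Set (Subgroup G)} (hSP : S ⊆ conjIn X P)
    (hne : ¬ conjIn X P ⊆ S) :
    ∃ Y ∈ conjIn X P, Y ∉ S ∧ Y ≤ Subgroup.normalizer ((sSup S : Subgroup G) : Set G) := by
  by_contra hcon
  push Not at hcon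
  set D := sSup S with hD
  have hDP : D ≤ P := sSup_le fun Y hY => (hSP hY).2
  set N := P ⊓ Subgroup.normalizer (D : Set G) with hN
  -- the conjugates in `N` are exactly `S`
  have hNS : conjIn X N = S := by
    ext Y
    constructor
    · rintro ⟨hY, hle⟩
      by_contra hYS
      exact hcon Y ⟨hY, hle.trans inf_le_left⟩ hYS (hle.trans inf_le_right)
    · intro hY
      exact ⟨(hSP hY).1, le_inf (hSP hY).2 ((le_sSup hY).trans Subgroup.le_normalizer)⟩
  have hNP : N = P := by
    by_contra hne'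
    have hlt : N < P := lt_of_le_of_ne inf_le_left hne'
    have : Group.IsNilpotent P := hP.isNilpotent
    have hN0 : N.subgroupOf P < ⊤ := by
      rw [lt_top_iff_ne_top, ne_eq, Subgroup.subgroupOf_eq_top]
      exact hlt.not_ge
    obtain ⟨m, hmN, hm⟩ := SetLike.exists_of_lt (Group.normalizerCondition_of_isNilpotent _ hN0)
    refine hm (Subgroup.mem_subgroupOf.2 (Subgroup.mem_inf.2 ⟨m.2, ?_⟩))
    have hsm : MulAut.conj (m : G) • N = N := by
      refine Subgroup.eq_of_le_of_card_ge ?_ (le_of_eq (Nat.card_congr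
        (Subgroup.equivSMul (MulAut.conj (m : G)) N).toEquiv))
      rintro _ ⟨a, ha, rfl⟩
      have := (Subgroup.mem_normalizer_iff.1 hmN ⟨a, (Subgroup.mem_inf.1 ha).1⟩).1
        (Subgroup.mem_subgroupOf.2 ha)
      simpa [Subgroup.mem_subgroupOf] using this
    refine mem_normalizer_sSup ?_
    rw [← hNS, smul_conjIn, hsm]
  refine hne fun Y hY => ?_
  rw [← hNS, hNP]
  exact hY

/-- The Baer-Suzuki theorem. -/
theorem baer_suzuki (X : Subgroup G) (hX : IsPGroup p X)
    (h : ∀ g : G, IsPGroup p ↥(X ⊔ MulAut.conj g • X)) :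
    ∃ N : Subgroup G, N.Normal ∧ IsPGroup p N ∧ X ≤ N := by
  classical
  -- any two conjugates generate a `p`-group
  have hpair : ∀ a b : G, IsPGroup p ↥(MulAut.conj a • X ⊔ MulAut.conj b • X) := by
    intro a b
    have h1 := (h (a⁻¹ * b)).map (MulAut.conj a).toMonoidHom
    have e : (X ⊔ MulAut.conj (a⁻¹ * b) • X).map (MulAut.conj a).toMonoidHom =
        MulAut.conj a • X ⊔ MulAut.conj b • X := by
      show MulAut.conj a • (X ⊔ MulAut.conj (a⁻¹ * b) • X) = _
      rw [Subgroup.smul_sup, ← mul_smul, ← map_mul, mul_inv_cancel_left]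
    rwa [e] at h1
  -- all Sylow subgroups contain the same conjugates
  have hall : ∀ P Q : Sylow p G, conjIn X (P : Subgroup G) = conjIn X (Q : Subgroup G) := by
    by_contra hcon
    push Not at hcon
    obtain ⟨P₀, Q₀, hne₀⟩ := hcon
    have hfin : (Set.univ : Set (Sylow p G × Sylow p G)).Finite := Set.toFinite _
    obtain ⟨⟨P, Q⟩, hne, hmax⟩ := Set.exists_max_image
      {q : Sylow p G × Sylow p G | conjIn X (q.1 : Subgroup G) ≠ conjIn X (q.2 : Subgroup G)}
      (fun q => (conjIn X (q.1 : Subgroup G) ∩ conjIn X (q.2 : Subgroup G)).ncard)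
      (Set.toFinite _) ⟨(P₀, Q₀), hne₀⟩
    simp only [Set.mem_ofPred_eq, Prod.forall] at hne hmax
    set S := conjIn X (P : Subgroup G) ∩ conjIn X (Q : Subgroup G) with hS
    have hsat : ∀ R : Sylow p G, conjIn X (P : Subgroup G) ∩ conjIn X (Q : Subgroup G) ⊆
        conjIn X (R : Subgroup G) → sSup S ≤ (R : Subgroup G) := fun R hR =>
      sSup_le fun Y hY => (hR hY).2
    have hDP := hsat P Set.inter_subset_left
    have hnsub : ∀ P' Q' : Sylow p G, conjIn X (P' : Subgroup G) ≠ conjIn X (Q' : Subgroup G) →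
        ¬ conjIn X (P' : Subgroup G) ⊆ conjIn X (Q' : Subgroup G) := fun P' Q' hn hs =>
      hn (Set.eq_of_subset_of_ncard_le hs (ncard_conjIn X Q' P').le)
    obtain ⟨Y, hY, hYS, hYN⟩ := exists_normalizing P.2 (S := S) Set.inter_subset_left
      (fun hs => hnsub P Q hne (hs.trans Set.inter_subset_right))
    obtain ⟨Z, hZ, hZS, hZN⟩ := exists_normalizing Q.2 (S := S) Set.inter_subset_right
      (fun hs => hnsub Q P (Ne.symm hne) (hs.trans Set.inter_subset_left))
    obtain ⟨a, rfl⟩ := hY.1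
    obtain ⟨b, rfl⟩ := hZ.1
    have hpT : IsPGroup p ↥((MulAut.conj a • X ⊔ MulAut.conj b • X) ⊔ sSup S) :=
      (hpair a b).to_sup_of_normal_right' (P.2.to_le hDP) (sup_le hYN hZN)
    obtain ⟨R, hR⟩ := hpT.exists_le_sylow
    have hSR : S ⊆ conjIn X (R : Subgroup G) := fun W hW =>
      ⟨hW.1.1, (le_sSup hW).trans (le_sup_right.trans hR)⟩
    have hYR : MulAut.conj a • X ∈ conjIn X (R : Subgroup G) :=
      ⟨⟨a, rfl⟩, le_sup_left.trans (le_sup_left.trans hR)⟩
    have hZR : MulAut.conj b • X ∈ conjIn X (R : Subgroup G) :=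
      ⟨⟨b, rfl⟩, le_sup_right.trans (le_sup_left.trans hR)⟩
    have hPR : conjIn X (P : Subgroup G) = conjIn X (R : Subgroup G) := by
      by_contra hn
      refine absurd (hmax P R hn) (not_le.2 ?_)
      exact Set.ncard_lt_ncard (ssubset_iff_subset_not_subset.2
        ⟨fun W hW => ⟨hW.1, hSR hW⟩, fun hs => hYS (hs ⟨hY, hYR⟩)⟩) (Set.toFinite _)
    have hQR : conjIn X (Q : Subgroup G) = conjIn X (R : Subgroup G) := by
      by_contra hn
      refine absurd (hmax Q R hn) (not_le.2 ?_)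
      exact Set.ncard_lt_ncard (ssubset_iff_subset_not_subset.2
        ⟨fun W hW => ⟨hW.2, hSR hW⟩, fun hs => hZS (hs ⟨hZ, hZR⟩)⟩) (Set.toFinite _)
    exact hne (hPR.trans hQR.symm)
  obtain ⟨P, hP⟩ := hX.exists_le_sylow
  have hinv : ∀ g : G, (fun Y => MulAut.conj g • Y) '' conjIn X (P : Subgroup G) =
      conjIn X (P : Subgroup G) := fun g => by
    rw [smul_conjIn, ← Sylow.coe_subgroup_smul]
    exact hall _ _
  refine ⟨sSup (conjIn X (P : Subgroup G)), ?_, P.2.to_le (sSup_le fun Y hY => hY.2),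
    le_sSup ⟨⟨1, by simp⟩, hP⟩⟩
  rw [← Subgroup.normalizer_eq_top_iff]
  exact top_le_iff.1 fun g _ => mem_normalizer_sSup (hinv g)

/-- Baer-Suzuki for an element. -/
theorem baer_suzuki_elem {x : G} (hx : IsPGroup p (Subgroup.zpowers x))
    (h : ∀ g : G, IsPGroup p (Subgroup.closure ({x, g * x * g⁻¹} : Set G))) :
    ∃ N : Subgroup G, N.Normal ∧ IsPGroup p N ∧ x ∈ N := by
  obtain ⟨N, hN1, hN2, hN3⟩ := baer_suzuki (Subgroup.zpowers x) hx fun g => by
    refine (h g).to_le (sup_le ?_ ?_)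
    · exact Subgroup.zpowers_le.2 (Subgroup.subset_closure (Or.inl rfl))
    · rw [Subgroup.pointwise_smul_subset_iff, Subgroup.zpowers_le,
        Subgroup.mem_inv_pointwise_smul_iff]
      exact Subgroup.subset_closure (Or.inr (by simp [MulAut.smul_def]))
  exact ⟨N, hN1, hN2, hN3 (Subgroup.mem_zpowers x)⟩

/-- An involution outside every normal `2`-subgroup inverts a nontrivial element of odd order. -/
theorem exists_odd_inverted (t : G) (ht : orderOf t = 2)
    (hO : ∀ N : Subgroup G, N.Normal → IsPGroup 2 N → t ∉ N) :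
    ∃ h : G, h ≠ 1 ∧ Odd (orderOf h) ∧ t * h * t⁻¹ = h⁻¹ := by
  by_contra hcon
  push Not at hcon
  have hpt : IsPGroup 2 (Subgroup.zpowers t) :=
    IsPGroup.of_card (n := 1) (by rw [Nat.card_zpowers, ht, pow_one])
  obtain ⟨N, hN1, hN2, hN3⟩ := baer_suzuki_elem (p := 2) hpt fun g => by
    have hs : orderOf (g * t * g⁻¹) = 2 := (orderOf_conj_eq g t).trans ht
    obtain ⟨a, m, hm, hr⟩ := Nat.exists_eq_pow_mul_and_not_dvd
      (orderOf_pos (t * (g * t * g⁻¹))).ne' 2 (by norm_num)
    set r := t * (g * t * g⁻¹) with hrdef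
    have ho : orderOf (r ^ 2 ^ a) = m := by
      rw [orderOf_pow_of_dvd (by positivity) ⟨m, hr⟩, hr,
        Nat.mul_div_cancel_left _ (by positivity)]
    have hodd : Odd (orderOf (r ^ 2 ^ a)) := ho.symm ▸ Nat.odd_iff.2 (by omega)
    have hinv : t * r ^ 2 ^ a * t⁻¹ = (r ^ 2 ^ a)⁻¹ := by
      have := invert_zpow (invol_mul_self ht) (invert_mul (invol_mul_self ht) (invol_mul_self hs))
        ((2 ^ a : ℕ) : ℤ)
      rw [invol_inv ht]
      rw [zpow_neg, zpow_natCast, ← hrdef] at this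
      exact this
    have hm1 : m = 1 := by
      by_contra hne
      exact hcon _ (fun h1 => hne (by rw [← ho, h1, orderOf_one])) hodd hinv
    refine IsPGroup.of_card (n := a + 1) ?_
    rw [card_closure_pair ht hs, ← hrdef, hr, hm1]
    ring
  exact hO N hN1 hN2 hN3

end Cfsg.Agent.Lib.Involutions.BaerSuzuki
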