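import Mathlib
import Cfsg.Agent.Lib.Involutions.Basic

/-!
Isolated involutions: an involution `u` of a Sylow `2`-subgroup conjugate to no other element
of it.
-/

namespace Cfsg.Agent.Lib.Involutions.Isolated

open Cfsg.Agent.Lib.Involutions.Basic

variable {G : Type*} [Group G] [Finite G]

/-- Isolation holds in every `2`-subgroup containing the involution. -/
theorem eq_of_isPGroup {P : Sylow 2 G} {u : G} (huP : u ∈ P)
    (hiso : ∀ g : G, g * u * g⁻¹ ∈ P → g * u * g⁻¹ = u) {R : Subgroup G} (hR : IsPGroup 2 R)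
    (huR : u ∈ R) {g : G} (hg : g * u * g⁻¹ ∈ R) : g * u * g⁻¹ = u := by
  obtain ⟨Q, hQ⟩ := hR.exists_le_sylow
  obtain ⟨h, hh⟩ := MulAction.exists_smul_eq G Q P
  have key : ∀ a ∈ R, h * a * h⁻¹ ∈ P := fun a ha => by
    show h * a * h⁻¹ ∈ (P : Subgroup G)
    rw [← hh, Sylow.coe_subgroup_smul]
    simpa using Subgroup.smul_mem_pointwise_smul (a := MulAut.conj h) a (Q : Subgroup G) (hQ ha)
  have h1 := hiso h (key u huR)
  have e : h * (g * u * g⁻¹) * h⁻¹ = h * g * u * (h * g)⁻¹ := by group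
  have h2 : h * g * u * (h * g)⁻¹ = u := hiso (h * g) (e ▸ key _ hg)
  rw [← e] at h2
  calc g * u * g⁻¹ = h⁻¹ * (h * (g * u * g⁻¹) * h⁻¹) * h := by group
    _ = h⁻¹ * (h * u * h⁻¹) * h := by rw [h2, h1]
    _ = u := by group

theorem eq_of_conj_mem {P : Sylow 2 G} {u v : G} (huP : u ∈ P)
    (hiso : ∀ g : G, g * u * g⁻¹ ∈ P → g * u * g⁻¹ = u) {R : Subgroup G} (hR : IsPGroup 2 R)
    (huR : u ∈ R) (hvR : v ∈ R) (hc : IsConj u v) : v = u := by
  obtain ⟨g, rfl⟩ := isConj_iff.1 hc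
  exact eq_of_isPGroup huP hiso hR huR hvR

/-- The product of an isolated involution with a conjugate has odd order. -/
theorem odd_orderOf_mul {P : Sylow 2 G} {u v : G} (hu : orderOf u = 2) (huP : u ∈ P)
    (hiso : ∀ g : G, g * u * g⁻¹ ∈ P → g * u * g⁻¹ = u) (hc : IsConj u v) :
    Odd (orderOf (u * v)) := by
  by_contra hodd
  rw [Nat.not_odd_iff_even] at hodd
  have hv : orderOf v = 2 := by
    obtain ⟨g, rfl⟩ := isConj_iff.1 hc
    rw [orderOf_conj_eq, hu]
  set D := Subgroup.closure ({u, v} : Set G) with hD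
  have huD : u ∈ D := Subgroup.subset_closure (Or.inl rfl)
  have hvD : v ∈ D := Subgroup.subset_closure (Or.inr rfl)
  have hpg : ∀ w : D, orderOf (w : G) = 2 → IsPGroup 2 (Subgroup.zpowers w) := fun w hw =>
    IsPGroup.of_card (n := 1) (by rw [Nat.card_zpowers, ← Subgroup.orderOf_coe, hw, pow_one])
  obtain ⟨R, hR⟩ := (hpg ⟨u, huD⟩ hu).exists_le_sylow
  obtain ⟨R', hR'⟩ := (hpg ⟨v, hvD⟩ hv).exists_le_sylow
  obtain ⟨d, hd⟩ := MulAction.exists_smul_eq D R' R
  have h1 : d * ⟨v, hvD⟩ * d⁻¹ ∈ (R : Subgroup D) := by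
    rw [← hd, Sylow.coe_subgroup_smul]
    simpa using Subgroup.smul_mem_pointwise_smul (a := MulAut.conj d) (⟨v, hvD⟩ : D)
      (R' : Subgroup D) (hR' (Subgroup.mem_zpowers _))
  have h2 : (d : G) * v * (d : G)⁻¹ = u :=
    eq_of_conj_mem huP hiso (R.2.map D.subtype)
      ⟨⟨u, huD⟩, hR (Subgroup.mem_zpowers _), rfl⟩ ⟨_, h1, rfl⟩
      (hc.trans (isConj_iff.2 ⟨d, rfl⟩))
  refine not_conj_of_even (invol_mul_self hu) (invol_mul_self hv) hodd (inv_mem d.2) ?_
  rw [← h2]; group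

/-- An involution is isolated iff all its commutators have odd order. -/
theorem isolated_iff_odd_commutators {P : Sylow 2 G} {u : G} (hu : orderOf u = 2) (huP : u ∈ P) :
    (∀ g : G, g * u * g⁻¹ ∈ P → g * u * g⁻¹ = u) ↔
      ∀ g : G, Odd (orderOf (u * g * u⁻¹ * g⁻¹)) := by
  have e : ∀ g : G, u * g * u⁻¹ * g⁻¹ = u * (g * u * g⁻¹) := fun g => by
    rw [invol_inv hu, mul_assoc u, mul_assoc u]
  constructor
  · intro hiso g
    rw [e]
    exact odd_orderOf_mul hu huP hiso (isConj_iff.2 ⟨g, rfl⟩)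
  · intro h g hg
    have hodd := h g
    rw [e] at hodd
    obtain ⟨k, hk⟩ := IsPGroup.iff_orderOf.1 P.2 ⟨u * (g * u * g⁻¹), mul_mem huP hg⟩
    rw [Subgroup.orderOf_mk] at hk
    rcases Nat.eq_zero_or_pos k with rfl | hk0
    · have h1 : u * (g * u * g⁻¹) = 1 := orderOf_eq_one_iff.1 (by simpa using hk)
      rw [← inv_eq_of_mul_eq_one_right h1, invol_inv hu]
    · rw [hk] at hodd
      exact absurd (even_two.pow_of_ne_zero (by omega)) (Nat.not_even_iff_odd.2 hodd)

/-- The product of an isolated involution with a non-conjugate involution has order twice an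
odd number. -/
theorem orderOf_mul_mod_four {P : Sylow 2 G} {u s : G} (hu : orderOf u = 2) (huP : u ∈ P)
    (hiso : ∀ g : G, g * u * g⁻¹ ∈ P → g * u * g⁻¹ = u) (hs : orderOf s = 2)
    (hns : ¬ IsConj s u) : orderOf (s * u) % 4 = 2 := by
  have e : orderOf (s * u) = orderOf (u * s) := by
    rw [← orderOf_inv (s * u), mul_inv_rev, invol_inv hu, invol_inv hs]
  rw [e]
  have heven := even_of_not_isConj hu hs fun h => hns h.symm
  by_contra hne
  have h4 : 4 ∣ orderOf (u * s) := by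
    obtain ⟨m, hm⟩ := heven
    omega
  obtain ⟨hz, hzu, -⟩ := central_invol hu hs heven
  set z := (u * s) ^ (orderOf (u * s) / 2) with hzdef
  obtain ⟨c, hc⟩ := h4
  obtain ⟨d, -, hd⟩ : ∃ d ∈ Subgroup.closure ({u, s} : Set G), d * u * d⁻¹ = u * z := by
    refine (exists_conj_mem_iff (invol_mul_self hu) (invol_mul_self hs)).2 ⟨c, ?_⟩
    rw [hzdef, show orderOf (u * s) / 2 = 2 * c by omega, ← zpow_natCast]
    push_cast
    rfl
  have huz : orderOf (u * z) = 2 := by rw [← hd, orderOf_conj_eq, hu]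
  have hpg : IsPGroup 2 (Subgroup.closure ({u, z} : Set G)) :=
    IsPGroup.of_card (n := 2) (by rw [card_closure_pair hu hz, huz]; rfl)
  have key := eq_of_conj_mem huP hiso hpg (Subgroup.subset_closure (Or.inl rfl))
    (mul_mem (Subgroup.subset_closure (Or.inl rfl)) (Subgroup.subset_closure (Or.inr rfl)))
    (isConj_iff.2 ⟨d, hd⟩)
  exact invol_ne_one hz (mul_eq_left.1 key)

end Cfsg.Agent.Lib.Involutions.Isolated
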