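import Mathlib
import Cfsg.Agent.Lib.Involutions.Basic
import Cfsg.Agent.Lib.PGroups.UniqueInvolution
import Cfsg.Agent.Lib.PGroups.MaxAbelian
import Cfsg.Agent.Lib.PGroups.Omega

/-!
A `2`-group containing an elementary abelian subgroup of order eight has a normal four-subgroup,
and passing 2-rank three to involution centralisers.
-/

namespace Cfsg.Agent.Lib.Involutions.NormalFour

open Cfsg.Agent.Lib.Involutions.Basic

theorem int_sq_one {m : ℕ} {k : ℤ} (h : (2 : ℤ) ^ (m + 1) ∣ k * k - 1) :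
    (2 : ℤ) ^ m ∣ k - 1 ∨ (2 : ℤ) ^ m ∣ k + 1 := by
  have hkk : Odd (k * k) := by
    obtain ⟨c, hc⟩ := (dvd_pow_self (2 : ℤ) (Nat.succ_ne_zero m)).trans h
    exact ⟨c, by omega⟩
  obtain ⟨j, rfl⟩ := (Int.odd_mul.1 hkk).1
  rcases m with _ | _ | m
  · exact Or.inl (by simp)
  · exact Or.inl ⟨j, by ring⟩
  rw [show ((2 : ℤ) ^ (m + 1 + 1 + 1)) = 4 * 2 ^ (m + 1) by ring,
    show (2 * j + 1) * (2 * j + 1) - 1 = 4 * (j * (j + 1)) by ring] at h
  have h' := Int.dvd_of_mul_dvd_mul_left (by norm_num) h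
  rw [show (2 : ℤ) ^ (m + 1 + 1) = 2 * 2 ^ (m + 1) by ring,
    show 2 * j + 1 - 1 = 2 * j by ring, show 2 * j + 1 + 1 = 2 * (j + 1) by ring]
  have h2 : ∀ i : ℤ, Odd i → IsCoprime ((2 : ℤ) ^ (m + 1)) i := fun i hi => by
    refine IsCoprime.pow_left ?_
    obtain ⟨c, rfl⟩ := hi
    exact ⟨-c, 1, by ring⟩
  rcases Int.even_or_odd j with he | ho
  · exact Or.inl (mul_dvd_mul_left 2 ((h2 _ he.add_one).dvd_of_dvd_mul_right h'))
  · exact Or.inr (mul_dvd_mul_left 2 ((h2 _ ho).dvd_of_dvd_mul_left h'))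

variable {T : Type*} [Group T]

theorem comm_of_exp_two {U : Subgroup T} (h : ∀ u ∈ U, u ^ 2 = 1) {a b : T} (ha : a ∈ U)
    (hb : b ∈ U) : a * b = b * a := by
  have e : ∀ u ∈ U, u⁻¹ = u := fun u hu =>
    inv_eq_of_mul_eq_one_right (by rw [← pow_two, h u hu])
  calc a * b = (a * b)⁻¹ := (e _ (mul_mem ha hb)).symm
    _ = b * a := by rw [mul_inv_rev, e a ha, e b hb]

theorem exp_two_sup {U V : Subgroup T} (hU : ∀ u ∈ U, u ^ 2 = 1) (hV : ∀ v ∈ V, v ^ 2 = 1)
    (hUV : V ≤ Subgroup.centralizer (U : Set T)) : ∀ w ∈ U ⊔ V, w ^ 2 = 1 := by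
  intro w hw
  have hn : V ≤ Subgroup.normalizer (U : Set T) := fun v hv => by
    rw [Subgroup.mem_normalizer_iff]
    intro a
    have hvU := hUV hv
    constructor
    · intro ha
      rw [← hvU a ha, mul_inv_cancel_right]; exact ha
    · intro ha
      have h1 := hvU _ ha
      have : v * a * v⁻¹ = a := by
        have h2 : v⁻¹ * (v * a * v⁻¹) * v = v * a * v⁻¹ := by
          rw [mul_assoc, h1]; group
        rw [← h2]; group
      rwa [this] at ha
  rw [← SetLike.mem_coe, Subgroup.coe_mul_of_right_le_normalizer_left _ _ hn] at hw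
  obtain ⟨u, hu, v, hv, rfl⟩ := Set.mem_mul.1 hw
  rw [(show Commute u v from hUV hv u hu).mul_pow, hU u hu, hV v hv, one_mul]

variable [Finite T]

/-- A `2`-group with an elementary abelian subgroup of order at least eight has a normal
four-subgroup. -/
theorem exists_normal_four (hT : IsPGroup 2 T) (E : Subgroup T) (hE : 8 ≤ Nat.card E)
    (hEe : ∀ e ∈ E, e ^ 2 = 1) :
    ∃ U : Subgroup T, U.Normal ∧ Nat.card U = 4 ∧ ∀ u ∈ U, u ^ 2 = 1 := by
  classical
  obtain ⟨A, -, hAn, hA, hmax⟩ := PGroups.exists_maximal_normal_abelian (⊥ : Subgroup T)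
    (Subgroup.le_centralizer_iff_isMulCommutative.mp (by simp))
  by_cases hAc : IsCyclic A
  swap
  · have := PGroups.omegaOne_normal (p := 2) (K := A)
    obtain ⟨M, hMn, hM, hMc⟩ := PGroups.exists_normal_le_card hT (Cfsg.omegaOne 2 A)
      (PGroups.sq_le_card_omegaOne hA (hT.to_subgroup A) hAc)
    refine ⟨M, hMn, by simpa using hMc, fun u hu => ?_⟩
    exact PGroups.elemAb_pow (PGroups.elemAb_mono (PGroups.elemAb_omegaOne hA) hM) hu
  have hC := PGroups.centralizer_eq_self_of_maximal hT hA hmax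
  obtain ⟨a, hgen⟩ := (A.isCyclic_iff_exists_zpowers_eq_top).mp hAc
  have haA : a ∈ A := hgen ▸ Subgroup.mem_zpowers a
  have hconj : ∀ g : T, ∃ k : ℤ, a ^ k = g * a * g⁻¹ := fun g => by
    have h := hAn.conj_mem a haA g
    rw [← hgen] at h
    exact Subgroup.mem_zpowers_iff.1 h
  have hEA : ∀ e ∈ E, ∀ e' ∈ E, e * a * e⁻¹ = e' * a * e'⁻¹ → e⁻¹ * e' ∈ A := by
    intro e _ e' _ h
    have hmem : e⁻¹ * e' ∈ Subgroup.centralizer (A : Set T) := by
      rw [← hgen]
      intro x hx
      obtain ⟨i, rfl⟩ := Subgroup.mem_zpowers_iff.1 hx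
      have h1 : Commute a (e⁻¹ * e') := by
        show a * (e⁻¹ * e') = e⁻¹ * e' * a
        calc a * (e⁻¹ * e') = e⁻¹ * (e * a * e⁻¹) * e' := by group
          _ = e⁻¹ * (e' * a * e'⁻¹) * e' := by rw [h]
          _ = e⁻¹ * e' * a := by group
      exact (h1.zpow_left i).eq
    rwa [hC] at hmem
  -- `E` meets `A` in at most two elements
  obtain ⟨N, hN⟩ := IsPGroup.iff_orderOf.1 hT a
  have hsmall : ∀ x ∈ A, x ^ 2 = 1 → x = 1 ∨ x = a ^ (orderOf a / 2) := by
    intro x hx hx2
    rcases eq_or_ne x 1 with h1 | h1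
    · exact Or.inl h1
    · exact Or.inr (invol_unique_zpowers (invol_iff.2 ⟨by rw [← pow_two]; exact hx2, h1⟩)
        (hgen ▸ hx)).2
  have := Fintype.ofFinite T
  set S := Finset.univ.filter (fun e : T => e ∈ E) with hS
  have hScard : S.card = Nat.card E := by
    rw [Nat.card_eq_fintype_card, Fintype.card_subtype]
  set I := S.image (fun e => e * a * e⁻¹) with hI
  have hfib : S.card ≤ 2 * I.card := by
    refine Finset.card_le_mul_card_image S 2 fun y hy => ?_
    obtain ⟨e, he, rfl⟩ := Finset.mem_image.1 hy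
    have heE : e ∈ E := (Finset.mem_filter.1 he).2
    refine le_trans (Finset.card_le_card (t := {e, e * a ^ (orderOf a / 2)}) ?_) Finset.card_le_two
    intro e' he'
    obtain ⟨he'S, hee⟩ := Finset.mem_filter.1 he'
    have he'E : e' ∈ E := (Finset.mem_filter.1 he'S).2
    rcases hsmall _ (hEA e heE e' he'E hee.symm) (hEe _ (mul_mem (inv_mem heE) he'E)) with h | h
    · rw [inv_mul_eq_one.1 h]; simp
    · rw [← h, ← mul_assoc, mul_inv_cancel, one_mul]; simp
  have hI4 : 4 ≤ I.card := by omega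
  -- hence `a` has order at least eight
  obtain ⟨m, rfl⟩ : ∃ m, N = m + 1 := by
    rcases N with _ | m
    · rw [pow_zero, orderOf_eq_one_iff] at hN
      have : I ⊆ {1} := by
        intro y hy
        obtain ⟨e, -, rfl⟩ := Finset.mem_image.1 hy
        simp [hN]
      have := Finset.card_le_card this
      simp at this
      omega
    · exact ⟨m, rfl⟩
  have hhalf : orderOf a / 2 = 2 ^ m := by rw [hN, pow_succ]; simp
  set w := a ^ (orderOf a / 2) with hw
  have hw2 : orderOf w = 2 := orderOf_pow_half (by rw [hN, pow_succ]; exact ⟨2 ^ m, by ring⟩)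
  have hww := invol_mul_self hw2
  have hsub : I ⊆ {a, a⁻¹, a * w, a⁻¹ * w} := by
    intro y hy
    obtain ⟨e, he, rfl⟩ := Finset.mem_image.1 hy
    have heE : e ∈ E := (Finset.mem_filter.1 he).2
    have he2 : e * e = 1 := by rw [← pow_two]; exact hEe e heE
    obtain ⟨k, hk⟩ := hconj e
    have hkk : a ^ (k * k - 1) = 1 := by
      rw [zpow_sub_one, mul_inv_eq_one, zpow_mul, hk, conj_zpow, hk]
      calc e * (e * a * e⁻¹) * e⁻¹ = (e * e) * a * (e * e)⁻¹ := by group
        _ = a := by rw [he2]; simp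
    have hdvd := orderOf_dvd_iff_zpow_eq_one.2 hkk
    rw [hN] at hdvd
    push_cast at hdvd
    have hwz : w = a ^ ((2 : ℤ) ^ m) := by
      rw [hw, hhalf, ← zpow_natCast]; push_cast; rfl
    rw [← hk]
    have hwi : ∀ i : ℤ, w ^ i = 1 ∨ w ^ i = w := fun i => by
      rcases Int.even_or_odd i with ⟨c, rfl⟩ | ⟨c, rfl⟩
      · left; rw [← two_mul, zpow_mul, zpow_two, hww, one_zpow]
      · right; rw [zpow_add, zpow_mul, zpow_two, hww, one_zpow, one_mul, zpow_one]
    simp only [Finset.mem_insert, Finset.mem_singleton]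
    rcases int_sq_one hdvd with ⟨i, hi⟩ | ⟨i, hi⟩
    · rw [show k = 1 + 2 ^ m * i by omega, zpow_add, zpow_one, zpow_mul, ← hwz]
      rcases hwi i with h | h <;> rw [h] <;> simp
    · rw [show k = -1 + 2 ^ m * i by omega, zpow_add, zpow_neg_one, zpow_mul, ← hwz]
      rcases hwi i with h | h <;> rw [h] <;> simp
  have hIeq : I = {a, a⁻¹, a * w, a⁻¹ * w} :=
    Finset.eq_of_subset_of_card_le hsub (Finset.card_le_four.trans hI4)
  have hm2 : 2 ≤ m := by
    by_contra hlt
    have hd : a * w = a⁻¹ ∨ a * w = a := by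
      interval_cases m
      · left
        have haa : a * a = 1 := by rw [← pow_two, show (2 : ℕ) = orderOf a by rw [hN]; norm_num,
          pow_orderOf_eq_one]
        exfalso
        have hle : I ⊆ {a, a * w} := by
          intro y hy
          have := hsub hy
          simp only [Finset.mem_insert, Finset.mem_singleton] at this ⊢
          rw [inv_eq_of_mul_eq_one_right haa] at this
          tauto
        have := (Finset.card_le_card hle).trans Finset.card_le_two
        omega
      · left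
        have h4 : orderOf a = 4 := by rw [hN]; norm_num
        refine eq_inv_of_mul_eq_one_left ?_
        rw [hw, hhalf, pow_one, ← pow_succ', ← pow_succ, show (2 + 1 + 1 : ℕ) = orderOf a by omega,
          pow_orderOf_eq_one]
    have hle : I ⊆ {a, a⁻¹, a⁻¹ * w} := by
      intro y hy
      have := hsub hy
      simp only [Finset.mem_insert, Finset.mem_singleton] at this ⊢
      rcases hd with hd | hd <;> rw [hd] at this <;> tauto
    have := (Finset.card_le_card hle).trans Finset.card_le_three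
    omega
  -- an element of `E` acting by `a ↦ a * w`
  obtain ⟨e, he, hea⟩ : ∃ e ∈ S, e * a * e⁻¹ = a * w := by
    have : a * w ∈ I := by rw [hIeq]; simp
    exact Finset.mem_image.1 this
  have heE : e ∈ E := (Finset.mem_filter.1 he).2
  have he2 : e * e = 1 := by rw [← pow_two]; exact hEe e heE
  have hwA : w ∈ A := hw ▸ pow_mem haA _
  have hwc : ∀ g : T, g * w * g⁻¹ = w := by
    intro g
    refine ((hsmall _ (hAn.conj_mem w hwA g) ?_).resolve_left ?_)
    · rw [conj_pow, pow_two, hww, mul_one, mul_inv_cancel]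
    · exact invol_ne_one ((orderOf_conj_eq g w).trans hw2)
  have heA : e ∉ A := by
    intro h
    have := hA
    rw [setLike_mul_comm h haA, mul_inv_cancel_right] at hea
    exact invol_ne_one hw2 (mul_eq_left.1 hea.symm)
  have hew : Commute e w := mul_inv_eq_iff_eq_mul.1 (hwc e)
  have hne : e * w ≠ 1 := fun h => heA (by rw [eq_inv_of_mul_eq_one_left h]; exact inv_mem hwA)
  have heo : orderOf e = 2 := invol_iff.2 ⟨he2, fun h => heA (h ▸ one_mem A)⟩
  set U := Subgroup.closure ({e, w} : Set T) with hU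
  have hrel : orderOf (e * w) = 2 := invol_iff.2 ⟨by
    rw [← pow_two, hew.mul_pow, pow_two, pow_two, he2, hww, one_mul], hne⟩
  have heU : e ∈ U := Subgroup.subset_closure (Or.inl rfl)
  have hwU : w ∈ U := Subgroup.subset_closure (Or.inr rfl)
  refine ⟨U, ⟨fun x hx g => ?_⟩, by rw [hU, card_closure_pair heo hw2, hrel], ?_⟩
  · have hmap : g * e * g⁻¹ ∈ U := by
      obtain ⟨k, hk⟩ := hconj g⁻¹
      have hact : g * e * g⁻¹ * a * (g * e * g⁻¹)⁻¹ = a * w := by
        have h1 : e * a ^ k * e⁻¹ = a ^ k * w ^ k := by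
          rw [← conj_zpow, hea]
          exact Commute.mul_zpow (mul_inv_eq_iff_eq_mul.1 (hwc a)) k
        have h2 : w ^ k = w := by
          have : Odd k := by
            by_contra hk'
            obtain ⟨c, rfl⟩ := Int.not_odd_iff_even.1 hk'
            have h3 : a ^ ((2 : ℤ) ^ m * (c + c)) = 1 := by
              rw [← two_mul, ← mul_assoc, zpow_mul,
                show ((2 : ℤ) ^ m * 2) = ((orderOf a : ℕ) : ℤ) by rw [hN, pow_succ]; push_cast; rfl,
                zpow_natCast, pow_orderOf_eq_one, one_zpow]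
            rw [zpow_mul', hk, conj_zpow] at h3
            have h4 : a ^ ((2 : ℤ) ^ m) = 1 := conj_eq_one_iff.1 h3
            refine invol_ne_one hw2 ?_
            rw [hw, hhalf, ← zpow_natCast]
            exact_mod_cast h4
          obtain ⟨c, rfl⟩ := this
          rw [zpow_add, zpow_mul, zpow_two, hww, one_zpow, one_mul, zpow_one]
        calc g * e * g⁻¹ * a * (g * e * g⁻¹)⁻¹ = g * (e * (g⁻¹ * a * g⁻¹⁻¹) * e⁻¹) * g⁻¹ := by
              group
          _ = g * (a ^ k * w) * g⁻¹ := by rw [← hk, h1, h2]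
          _ = g * (g⁻¹ * a * g⁻¹⁻¹) * (w * g⁻¹) := by rw [← hk]; group
          _ = a * (g * w * g⁻¹) := by group
          _ = a * w := by rw [hwc]
      have hd : e⁻¹ * (g * e * g⁻¹) ∈ A := by
        rw [← hC, ← hgen]
        intro x hx
        obtain ⟨i, rfl⟩ := Subgroup.mem_zpowers_iff.1 hx
        refine ((show Commute a (e⁻¹ * (g * e * g⁻¹)) from ?_).zpow_left i).eq
        calc a * (e⁻¹ * (g * e * g⁻¹)) = e⁻¹ * (e * a * e⁻¹) * (g * e * g⁻¹) := by group
          _ = e⁻¹ * (g * e * g⁻¹ * a * (g * e * g⁻¹)⁻¹) * (g * e * g⁻¹) := by rw [hea, hact]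
          _ = e⁻¹ * (g * e * g⁻¹) * a := by group
      rw [← hgen] at hd
      obtain ⟨i, hi⟩ := Subgroup.mem_zpowers_iff.1 hd
      have hge : g * e * g⁻¹ = e * a ^ i := by rw [hi, ← mul_assoc, mul_inv_cancel, one_mul]
      have hsq : (g * e * g⁻¹) ^ 2 = 1 := by rw [conj_pow, pow_two, he2, mul_one, mul_inv_cancel]
      rw [hge] at hsq ⊢
      have h5 : a ^ (i + i) * w ^ i = 1 := by
        rw [pow_two] at hsq
        have hcaw : Commute a w := mul_inv_eq_iff_eq_mul.1 (hwc a)
        have : (a * w) ^ i = a ^ i * w ^ i :=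
          Commute.mul_zpow (mul_inv_eq_iff_eq_mul.1 (hwc a)) i
        calc a ^ (i + i) * w ^ i = (a * w) ^ i * a ^ i := by
              rw [this, zpow_add, mul_assoc, mul_assoc,
                (hcaw.zpow_zpow i i).eq]
          _ = e * a ^ i * e⁻¹ * a ^ i := by rw [← hea, conj_zpow]
          _ = 1 := by rw [inv_eq_of_mul_eq_one_right he2, mul_assoc]; exact hsq
      rcases Int.even_or_odd i with ⟨c, rfl⟩ | hodd
      · rcases hsmall (a ^ (c + c)) (zpow_mem haA _) (by
          have hwc' : w ^ (c + c) = 1 := by rw [← two_mul, zpow_mul, zpow_two, hww, one_zpow]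
          rw [pow_two, ← zpow_add]
          rwa [hwc', mul_one] at h5) with h | h
        · rw [h, mul_one]; exact heU
        · rw [h]; exact mul_mem heU hwU
      · exfalso
        obtain ⟨c, rfl⟩ := hodd
        have hw1 : w ^ (2 * c + 1) = w := by
          rw [zpow_add, zpow_mul, zpow_two, hww, one_zpow, one_mul, zpow_one]
        rw [hw1, hw, hhalf, ← zpow_natCast, ← zpow_add, ← orderOf_dvd_iff_zpow_eq_one, hN] at h5
        push_cast at h5
        obtain ⟨d, hd⟩ := h5
        have h4 : (4 : ℤ) ∣ 2 ^ m := by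
          obtain ⟨r, hr⟩ := Nat.exists_eq_add_of_le hm2
          exact ⟨2 ^ r, by rw [hr, pow_add]; norm_num⟩
        obtain ⟨r, hr⟩ := h4
        rw [pow_succ, hr] at hd
        have : (4 : ℤ) ∣ (2 * c + 1 + (2 * c + 1)) := ⟨r * 2 * d - r, by linarith⟩
        omega
    rw [hU] at hx
    induction hx using Subgroup.closure_induction with
    | mem z hz =>
      rcases hz with rfl | rfl
      · exact hmap
      · rw [hwc]; exact hwU
    | one => simp
    | mul x y _ _ ihx ihy =>
      rw [show g * (x * y) * g⁻¹ = g * x * g⁻¹ * (g * y * g⁻¹) by group]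
      exact mul_mem ihx ihy
    | inv x _ ihx =>
      rw [show g * x⁻¹ * g⁻¹ = (g * x * g⁻¹)⁻¹ by group]
      exact inv_mem ihx
  · intro u hu
    obtain ⟨i, rfl | rfl⟩ := (mem_closure_pair he2 hww).1 hu
    · rcases Int.even_or_odd i with ⟨c, rfl⟩ | ⟨c, rfl⟩ <;>
        simp [← two_mul, zpow_add, zpow_mul, zpow_two, invol_mul_self hrel, pow_two]
    · exact by rw [pow_two]; exact mul_zpow_sq he2 hww i

end Cfsg.Agent.Lib.Involutions.NormalFour
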