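import Mathlib
import Cfsg.Agent.Lib.Involutions.Basic
import Cfsg.Agent.Lib.Involutions.IndexTwo

/-!
The counting argument of Brauer and Fowler.
-/

namespace Cfsg.Agent.Lib.Involutions.BrauerFowler

open Cfsg.Agent.Lib.Involutions.Basic

variable {G : Type*} [Group G]

theorem commute_sq_of_inverts {g x : G} (hg : g * x * g⁻¹ = x⁻¹) : Commute (g ^ 2) x := by
  refine mul_inv_eq_iff_eq_mul.1 (?_ : g ^ 2 * x * (g ^ 2)⁻¹ = x)
  calc g ^ 2 * x * (g ^ 2)⁻¹ = g * (g * x * g⁻¹) * g⁻¹ := by
        rw [pow_two, mul_inv_rev]; simp only [mul_assoc]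
    _ = g * x⁻¹ * g⁻¹ := by rw [hg]
    _ = (g * x * g⁻¹)⁻¹ := by group
    _ = x := by rw [hg, inv_inv]

/-- The subgroup of elements conjugating `x` to `x` or to its inverse. -/
def extCentralizer (x : G) : Subgroup G where
  carrier := {g | g * x * g⁻¹ = x ∨ g * x * g⁻¹ = x⁻¹}
  one_mem' := Or.inl (by simp)
  mul_mem' := by
    intro a b ha hb
    have e : a * b * x * (a * b)⁻¹ = a * (b * x * b⁻¹) * a⁻¹ := by group
    simp only [Set.mem_ofPred_eq] at ha hb ⊢
    rcases hb with hb | hb <;> rw [e, hb]
    · exact ha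
    · have e' : a * x⁻¹ * a⁻¹ = (a * x * a⁻¹)⁻¹ := by group
      rcases ha with ha | ha <;> rw [e', ha]
      · exact Or.inr rfl
      · exact Or.inl (inv_inv x)
  inv_mem' := by
    intro a ha
    simp only [Set.mem_ofPred_eq] at ha ⊢
    rcases ha with ha | ha
    · refine Or.inl ?_
      nth_rw 1 [← ha]
      group
    · refine Or.inr ?_
      have : x = (a * x * a⁻¹)⁻¹ := by rw [ha, inv_inv]
      nth_rw 1 [this]
      group

variable [Finite G]

theorem card_extCentralizer {x : G} (hx : x ≠ x⁻¹) (hreal : IsConj x x⁻¹) :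
    Nat.card (extCentralizer x) =
      2 * Nat.card (Subgroup.centralizer ({x} : Set G)) := by
  classical
  have := Fintype.ofFinite G
  have h1 := card_inverters hreal
  have h2 : Nat.card {g : G // g * x * g⁻¹ = x} =
      Nat.card (Subgroup.centralizer ({x} : Set G)) :=
    Nat.card_congr (Equiv.subtypeEquivRight fun g => by
      rw [Subgroup.mem_centralizer_singleton_iff, mul_inv_eq_iff_eq_mul])
  have h3 : Nat.card (extCentralizer x) =
      Nat.card {g : G // g * x * g⁻¹ = x ∨ g * x * g⁻¹ = x⁻¹} := rfl
  rw [h3, two_mul]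
  nth_rw 2 [← h2]
  rw [← h1]
  simp only [Nat.card_eq_fintype_card]
  rw [Fintype.card_subtype_or_disjoint _ _ ?_, add_comm]
  rw [Pi.disjoint_iff]
  intro g
  simp only [Prop.disjoint_iff]
  exact fun h => hx (h.1.symm.trans h.2)

/-- The orbit bound: the group order is at most the number of involutions times the order of an
involution centraliser. -/
theorem card_le_card_invol_mul {t : G} (ht : orderOf t = 2) :
    Nat.card G ≤ Nat.card {u : G // orderOf u = 2} *
      Nat.card (Subgroup.centralizer ({t} : Set G)) := by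
  classical
  let T := {u : G // orderOf u = 2}
  let f : G → T := fun g => ⟨g * t * g⁻¹, (orderOf_conj_eq g t).trans ht⟩
  let rep : T → G := fun u => if h : ∃ g, f g = u then h.choose else 1
  have hrep : ∀ g, f (rep (f g)) = f g := fun g => by
    show f (if h : ∃ g', f g' = f g then h.choose else 1) = f g
    rw [dif_pos ⟨g, rfl⟩]
    exact Exists.choose_spec (⟨g, rfl⟩ : ∃ g', f g' = f g)
  rw [← Nat.card_prod]
  refine Nat.card_le_card_of_injective
    (fun g => (f g, (⟨(rep (f g))⁻¹ * g, ?_⟩ : Subgroup.centralizer ({t} : Set G)))) ?_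
  · have := congrArg Subtype.val (hrep g)
    rw [Subgroup.mem_centralizer_singleton_iff]
    simp only [f] at this ⊢
    calc (rep (f g))⁻¹ * g * t = (rep (f g))⁻¹ * (g * t * g⁻¹) * g := by group
      _ = (rep (f g))⁻¹ * (rep (f g) * t * (rep (f g))⁻¹) * g := by rw [this]
      _ = t * ((rep (f g))⁻¹ * g) := by group
  · intro a b hab
    simp only [Prod.mk.injEq, Subtype.ext_iff] at hab
    obtain ⟨h1, h2⟩ := hab
    rw [show f a = f b from Subtype.ext h1] at h2
    exact mul_left_cancel h2

theorem card_pairs_one : Nat.card (Pairs (1 : G)) = Nat.card {u : G // orderOf u = 2} := by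
  rw [Nat.card_congr (pairsEquiv (1 : G))]
  refine Nat.card_congr (Equiv.subtypeEquivRight fun t => ⟨fun h => h.1, fun h => ?_⟩)
  exact ⟨h, by simp, by rw [mul_one]; exact invol_ne_one h⟩

/-- The Brauer-Fowler count, for any bound `K` on the orders of proper subgroups. -/
theorem count_bound (hcent : ∀ t : G, orderOf t = 2 → t ∉ Subgroup.center G)
    (hno2 : ∀ H : Subgroup G, H.index ≠ 2) {K : ℕ}
    (hK : ∀ H : Subgroup G, H ≠ ⊤ → Nat.card H ≤ K) :
    2 * Nat.card {t : G // orderOf t = 2} ^ 2 + 2 * Nat.card {t : G // orderOf t = 2} + K ≤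
      (Nat.card G + Nat.card {t : G // orderOf t = 2}) * K := by
  classical
  have := Fintype.ofFinite G
  set n := Nat.card {t : G // orderOf t = 2} with hn
  let I := {t : G // orderOf t = 2}
  let b : G → ℕ := fun x => Nat.card (Pairs x)
  -- pairs of involutions are counted by their products
  have hsum : n * n = ∑ x : G, b x := by
    rw [hn, ← Nat.card_prod, ← Nat.card_sigma]
    exact (Nat.card_congr {
      toFun := fun s => (⟨s.2.1.1, s.2.2.1⟩, ⟨s.2.1.2, s.2.2.2.1⟩)
      invFun := fun p => ⟨p.1.1 * p.2.1, ⟨(p.1.1, p.2.1), p.1.2, p.2.2, rfl⟩⟩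
      left_inv := by rintro ⟨x, ⟨⟨u, v⟩, hu, hv, hx⟩⟩; simp only at hx; subst hx; rfl
      right_inv := fun p => rfl }).symm
  -- the bound for each product
  have hinv : ∀ x : G, orderOf x = 2 → 2 * b x + 4 ≤ 2 * K := by
    intro x hx
    have h1 := card_pairs_invol hx
    have h2 := hK (Subgroup.centralizer ({x} : Set G)) fun h => hcent x hx (by
      rw [Subgroup.mem_center_iff]
      intro g
      exact (Subgroup.mem_centralizer_singleton_iff.1 (h ▸ Subgroup.mem_top g)))
    simp only [b]
    omega
  have hoth : ∀ x : G, x ≠ 1 → orderOf x ≠ 2 → 2 * b x ≤ K := by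
    intro x hx1 hx2
    rcases eq_or_ne (b x) 0 with h | h
    · omega
    have hreal : IsConj x x⁻¹ := by
      by_contra hc
      exact h (card_pairs_eq_zero hc)
    have hne : x ≠ x⁻¹ := fun he =>
      hx2 (invol_iff.2 ⟨by nth_rw 1 [he]; exact inv_mul_cancel x, hx1⟩)
    have h1 := card_extCentralizer hne hreal
    have h2 : extCentralizer x ≠ ⊤ := by
      intro htop
      rw [htop, Subgroup.card_top] at h1
      refine hno2 (Subgroup.centralizer ({x} : Set G)) ?_
      have h3 := (Subgroup.centralizer ({x} : Set G)).card_mul_index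
      rw [h1, mul_comm] at h3
      exact Nat.eq_of_mul_eq_mul_right Nat.card_pos h3
    have h4 := hK _ h2
    have h5 := card_pairs_le_centralizer x
    simp only [b] at h ⊢
    omega
  set S := Finset.univ.filter (fun x : G => orderOf x = 2) with hS
  set R := Finset.univ.filter (fun x : G => x ≠ 1 ∧ orderOf x ≠ 2) with hR
  have hScard : S.card = n := by
    rw [hn, Nat.card_eq_fintype_card, Fintype.card_subtype]
  have hdisj : Disjoint S R := Finset.disjoint_filter.2 fun x _ h h' => h'.2 h
  have h1notin : (1 : G) ∉ S ∪ R := by simp [S, R, orderOf_one]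
  have huniv : (Finset.univ : Finset G) = insert 1 (S ∪ R) := by
    ext x
    simp only [Finset.mem_univ, Finset.mem_insert, Finset.mem_union, S, R, Finset.mem_filter,
      true_and, true_iff]
    tauto
  have hcard : Nat.card G = 1 + S.card + R.card := by
    rw [Nat.card_eq_fintype_card, ← Finset.card_univ, huniv,
      Finset.card_insert_of_notMem h1notin, Finset.card_union_of_disjoint hdisj]
    omega
  rw [huniv, Finset.sum_insert h1notin, Finset.sum_union hdisj] at hsum
  have hb1 : b 1 = n := card_pairs_one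
  have hS' : ∑ x ∈ S, (2 * b x + 4) ≤ S.card * (2 * K) := by
    rw [← smul_eq_mul, ← Finset.sum_const]
    exact Finset.sum_le_sum fun x hx => hinv x (Finset.mem_filter.1 hx).2
  have hR' : ∑ x ∈ R, (2 * b x) ≤ R.card * K := by
    rw [← smul_eq_mul, ← Finset.sum_const]
    exact Finset.sum_le_sum fun x hx =>
      hoth x (Finset.mem_filter.1 hx).2.1 (Finset.mem_filter.1 hx).2.2
  rw [Finset.sum_add_distrib, ← Finset.mul_sum, Finset.sum_const, smul_eq_mul] at hS'
  rw [← Finset.mul_sum] at hR'
  rw [hb1] at hsum
  rw [hScard] at hS' hcard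
  rw [hcard]
  nlinarith

omit [Finite G] in
theorem exists_proper [Nontrivial G] : ∃ H : Subgroup G, H ≠ ⊤ := ⟨⊥, bot_ne_top⟩

theorem exists_max_proper [Nontrivial G] :
    ∃ H : Subgroup G, H ≠ ⊤ ∧ ∀ H' : Subgroup G, H' ≠ ⊤ → Nat.card H' ≤ Nat.card H := by
  obtain ⟨H, hH, hmax⟩ := Set.exists_max_image {H : Subgroup G | H ≠ ⊤}
    (fun H => Nat.card H) (Set.toFinite _) ⟨⊥, bot_ne_top⟩
  exact ⟨H, hH, hmax⟩

/-- The Brauer-Fowler index bound. -/
theorem exists_small_index (heven : Even (Nat.card G))
    (hcent : ∀ t : G, orderOf t = 2 → t ∉ Subgroup.center G) :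
    ∃ H : Subgroup G, H ≠ ⊤ ∧ (H.index = 2 ∨
      2 * H.index * Nat.card {t : G // orderOf t = 2} ^ 2 <
        Nat.card G * (Nat.card G + Nat.card {t : G // orderOf t = 2})) := by
  by_cases h2 : ∃ H : Subgroup G, H.index = 2
  · obtain ⟨H, hH⟩ := h2
    exact ⟨H, fun h => by rw [h, Subgroup.index_top] at hH; omega, Or.inl hH⟩
  push Not at h2
  obtain ⟨t, ht⟩ := exists_invol heven
  have : Nontrivial G := ⟨t, 1, invol_ne_one ht⟩
  obtain ⟨H, hH, hmax⟩ := exists_max_proper (G := G)
  refine ⟨H, hH, Or.inr ?_⟩
  have hb := count_bound hcent h2 hmax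
  have hmul := H.card_mul_index
  have hi : 0 < H.index := Nat.pos_of_ne_zero Subgroup.index_ne_zero_of_finite
  have hk : 0 < Nat.card H := Nat.card_pos
  nlinarith

/-- A group of even order greater than two has a proper subgroup `H` with `|G| < |H| ^ 3`. -/
theorem exists_card_lt_pow_three (heven : Even (Nat.card G)) (hgt : 2 < Nat.card G) :
    ∃ H : Subgroup G, H ≠ ⊤ ∧ Nat.card G < Nat.card H ^ 3 := by
  induction hg : Nat.card G using Nat.strong_induction_on generalizing G with
  | _ g IH =>
    by_cases h2 : ∃ H : Subgroup G, H.index = 2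
    · obtain ⟨H, hH⟩ := h2
      refine ⟨H, fun h => by rw [h, Subgroup.index_top] at hH; omega, ?_⟩
      have hmul := H.card_mul_index
      rw [hH] at hmul
      have h1 : 2 ≤ Nat.card H := by omega
      have h4 := Nat.mul_le_mul h1 h1
      have : 2 * Nat.card H < Nat.card H ^ 3 := by nlinarith
      omega
    push Not at h2
    by_cases hz : ∃ z : G, orderOf z = 2 ∧ z ∈ Subgroup.center G
    · obtain ⟨z, hz, hzc⟩ := hz
      have hn : (Subgroup.zpowers z).Normal := by
        constructor
        intro a ha b
        rw [Subgroup.mem_center_iff.1 ((Subgroup.zpowers_le.2 hzc) ha) b, mul_inv_cancel_right]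
        exact ha
      have hq : Nat.card G = 2 * Nat.card (G ⧸ Subgroup.zpowers z) := by
        rw [Subgroup.card_eq_card_quotient_mul_card_subgroup (Subgroup.zpowers z),
          Nat.card_zpowers, hz, mul_comm]
      -- a subgroup of index two exists when the quotient is small
      rcases Nat.even_or_odd (Nat.card (G ⧸ Subgroup.zpowers z)) with hqe | hqo
      · rcases Nat.lt_or_ge 2 (Nat.card (G ⧸ Subgroup.zpowers z)) with hq2 | hq2
        · obtain ⟨K, hK, hKlt⟩ := IH _ (by omega) hqe hq2 rfl
          refine ⟨K.comap (QuotientGroup.mk' _), fun h => hK ?_, ?_⟩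
          · rw [← Subgroup.map_comap_eq_self_of_surjective (QuotientGroup.mk'_surjective _) K, h,
              Subgroup.map_top_of_surjective _ (QuotientGroup.mk'_surjective _)]
          · have h1 : Nat.card (K.comap (QuotientGroup.mk' (Subgroup.zpowers z))) =
                2 * Nat.card K := by
              have e1 := (K.comap (QuotientGroup.mk' (Subgroup.zpowers z))).card_mul_index
              rw [Subgroup.index_comap_of_surjective _ (QuotientGroup.mk'_surjective _), hq,
                ← K.card_mul_index, ← mul_assoc] at e1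
              exact Nat.eq_of_mul_eq_mul_right
                (Nat.pos_of_ne_zero Subgroup.index_ne_zero_of_finite) e1
            rw [h1, mul_pow]
            omega
        · refine ⟨Subgroup.zpowers z, fun h => ?_, ?_⟩
          · rw [← Subgroup.card_eq_iff_eq_top, Nat.card_zpowers, hz] at h
            omega
          · rw [Nat.card_zpowers, hz]
            omega
      · exfalso
        obtain ⟨m, hm⟩ := hqo
        obtain ⟨H, hH⟩ := IndexTwo.exists_index_two_of_mod_four (G := G) (by omega)
        exact h2 H hH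
    · push Not at hz
      obtain ⟨t, ht⟩ := exists_invol heven
      have : Nontrivial G := ⟨t, 1, invol_ne_one ht⟩
      obtain ⟨H, hH, hmax⟩ := exists_max_proper (G := G)
      refine ⟨H, hH, ?_⟩
      by_contra hle
      push Not at hle
      rw [← hg] at hle
      have hb := count_bound hz h2 hmax
      have horb := card_le_card_invol_mul ht
      have hc := hmax (Subgroup.centralizer ({t} : Set G)) fun h => hz t ht (by
        rw [Subgroup.mem_center_iff]
        intro a
        exact Subgroup.mem_centralizer_singleton_iff.1 (h ▸ Subgroup.mem_top a))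
      set n := Nat.card {u : G // orderOf u = 2}
      set K := Nat.card H
      set N := Nat.card G
      have hK : 0 < K := Nat.card_pos
      have hnK : N ≤ n * K := horb.trans (Nat.mul_le_mul_left n hc)
      have h5 := Nat.mul_le_mul_left (n * K) hnK
      have h6 : N * K ^ 3 ≤ N * N := Nat.mul_le_mul_left N hle
      have h7 : K ^ 3 * n ≤ N * n := Nat.mul_le_mul_right n hle
      nlinarith

end Cfsg.Agent.Lib.Involutions.BrauerFowler
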