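import Mathlib
import Cfsg.Agent.Lib.Involutions.Basic
import Cfsg.Agent.Lib.Involutions.NormalFour
import Cfsg.Agent.Lib.Fusion.Thompson

/-!
2-rank at least three passes to involution centralisers in groups without subgroups of index two.
-/

namespace Cfsg.Agent.Lib.Involutions.RankThree

open Cfsg.Agent.Lib.Involutions.Basic
open Cfsg.Agent.Lib.Involutions.NormalFour (comm_of_exp_two exp_two_sup exists_normal_four)

variable {G : Type*} [Group G] [Finite G]

theorem isPGroup_of_exp_two {U : Subgroup G} (h : ∀ u ∈ U, u ^ 2 = 1) : IsPGroup 2 U :=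
  fun u => ⟨1, Subtype.ext (by simpa using h u.1 u.2)⟩

theorem exists_card_eight {W : Subgroup G} (h : 8 ≤ Nat.card W) (he : ∀ u ∈ W, u ^ 2 = 1) :
    ∃ E : Subgroup G, E ≤ W ∧ Nat.card E = 8 ∧ ∀ e ∈ E, e ^ 2 = 1 := by
  obtain ⟨n, hn⟩ := IsPGroup.iff_card.1 (isPGroup_of_exp_two he)
  have h3 : 3 ≤ n := by
    by_contra hlt
    have := Nat.pow_le_pow_right (show 0 < 2 by norm_num) (show n ≤ 2 by omega)
    omega
  obtain ⟨K, hK⟩ := Sylow.exists_subgroup_card_pow_prime (G := W) (n := 3) 2
    (hn ▸ pow_dvd_pow 2 h3)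
  refine ⟨K.map W.subtype, Subgroup.map_subtype_le _, ?_,
    fun e he' => he e (Subgroup.map_subtype_le _ he')⟩
  rw [Subgroup.card_map_of_injective W.subtype_injective, hK]
  norm_num

theorem eight_le_card_sup {U V : Subgroup G} (hU : Nat.card U = 4) (hUe : ∀ u ∈ U, u ^ 2 = 1)
    (hVe : ∀ v ∈ V, v ^ 2 = 1) (hUV : V ≤ Subgroup.centralizer (U : Set G)) (hne : ¬ V ≤ U) :
    8 ≤ Nat.card (U ⊔ V : Subgroup G) := by
  obtain ⟨n, hn⟩ := IsPGroup.iff_card.1 (isPGroup_of_exp_two (exp_two_sup hUe hVe hUV))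
  have hlt : Nat.card U < Nat.card (U ⊔ V : Subgroup G) := by
    refine lt_of_le_of_ne (Subgroup.card_le_of_le le_sup_left) fun he => hne ?_
    have := Subgroup.eq_of_le_of_card_ge le_sup_left he.ge
    exact this ▸ le_sup_right
  rw [hU, hn] at hlt
  rw [hn]
  have h3 : 3 ≤ n := by
    by_contra h
    have := Nat.pow_le_pow_right (show 0 < 2 by norm_num) (show n ≤ 2 by omega)
    omega
  exact le_trans (by norm_num) (Nat.pow_le_pow_right (show 0 < 2 by norm_num) h3)

/-- The 2-rank three property passes to involution centralisers. -/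
theorem exists_eight_le_centralizer (hno : ∀ H : Subgroup G, H.index ≠ 2) (E : Subgroup G)
    (hE : Nat.card E = 8) (hEe : ∀ e ∈ E, e ^ 2 = 1) (x : G) (hx : orderOf x = 2) :
    ∃ E' : Subgroup G, E' ≤ Subgroup.centralizer ({x} : Set G) ∧ Nat.card E' = 8 ∧
      ∀ e ∈ E', e ^ 2 = 1 := by
  obtain ⟨T, hT⟩ := (isPGroup_of_exp_two hEe).exists_le_sylow
  set E₀ := E.subgroupOf (T : Subgroup G) with hE₀
  have hE₀c : Nat.card E₀ = 8 := by
    rw [← hE, Nat.card_congr (Subgroup.subgroupOfEquivOfLe hT).toEquiv]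
  have hE₀e : ∀ e ∈ E₀, e ^ 2 = 1 := fun e he =>
    Subtype.ext (by simpa using hEe e (Subgroup.mem_subgroupOf.1 he))
  obtain ⟨U₀, hU₀n, hU₀c, hU₀e⟩ := exists_normal_four T.2 E₀ hE₀c.ge hE₀e
  set U := U₀.map (T : Subgroup G).subtype with hUdef
  have hUT : U ≤ (T : Subgroup G) := Subgroup.map_subtype_le _
  have hUc : Nat.card U = 4 := by
    rw [hUdef, Subgroup.card_map_of_injective (T : Subgroup G).subtype_injective, hU₀c]
  have : Nontrivial U := Finite.one_lt_card_iff_nontrivial.1 (by rw [hUc]; norm_num)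
  have hUe : ∀ u ∈ U, u ^ 2 = 1 := by
    rintro _ ⟨u, hu, rfl⟩
    simpa using congrArg Subtype.val (hU₀e u hu)
  have hUn : ∀ t ∈ (T : Subgroup G), ∀ u ∈ U, t * u * t⁻¹ ∈ U := by
    rintro t ht _ ⟨u, hu, rfl⟩
    exact ⟨⟨t, ht⟩ * u * ⟨t, ht⟩⁻¹, hU₀n.conj_mem u hu ⟨t, ht⟩, rfl⟩
  set M := (T : Subgroup G) ⊓ Subgroup.centralizer (U : Set G) with hM
  -- a central involution of `T` in `U`
  have : Group.IsNilpotent (T : Subgroup G) := T.2.isNilpotent
  have hnt : Nontrivial U₀ := Finite.one_lt_card_iff_nontrivial.1 (by rw [hU₀c]; norm_num)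
  obtain ⟨z₀, hz₀U, hz₀c, hz₀1⟩ : ∃ z₀ : (T : Subgroup G), z₀ ∈ U₀ ∧
      z₀ ∈ Subgroup.center (T : Subgroup G) ∧ z₀ ≠ 1 := by
    have hne : U₀ ⊓ Subgroup.center (T : Subgroup G) ≠ ⊥ := by
      intro h
      have := hU₀n
      have h2 := (T.2.to_subgroup ⊤)
      obtain ⟨M₁, hM₁n, hM₁U, hM₁c⟩ := PGroups.exists_normal_le_card T.2 (k := 1) U₀
        (by rw [hU₀c]; norm_num)
      obtain ⟨z, hzM, hz1⟩ := (Subgroup.bot_or_exists_ne_one M₁).resolve_left (fun hb => by
        rw [hb, Subgroup.card_bot] at hM₁c; norm_num at hM₁c)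
      have hzc : z ∈ Subgroup.center (T : Subgroup G) := by
        rw [Subgroup.mem_center_iff]
        intro t
        have h3 := hM₁n.conj_mem z hzM t
        have hc2 : Nat.card M₁ = 2 := by simpa using hM₁c
        obtain ⟨y, hy⟩ := Nat.card_eq_two_iff' (⟨1, one_mem _⟩ : M₁) |>.1 hc2
        have e1 := hy.2 ⟨z, hzM⟩ (fun h => hz1 (congrArg Subtype.val h))
        have e2 := hy.2 ⟨t * z * t⁻¹, h3⟩ (fun h => hz1 (by simpa using congrArg Subtype.val h))
        exact mul_inv_eq_iff_eq_mul.1 (congrArg Subtype.val (e2.trans e1.symm))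
      have hmem : z ∈ U₀ ⊓ Subgroup.center (T : Subgroup G) :=
        Subgroup.mem_inf.2 ⟨hM₁U hzM, hzc⟩
      rw [h, Subgroup.mem_bot] at hmem
      exact hz1 hmem
    obtain ⟨z, hz, hz1⟩ := (Subgroup.bot_or_exists_ne_one _).resolve_left hne
    exact ⟨z, (Subgroup.mem_inf.1 hz).1, (Subgroup.mem_inf.1 hz).2, hz1⟩
  set z : G := (z₀ : G) with hz
  have hzU : z ∈ U := ⟨z₀, hz₀U, rfl⟩
  have hz1 : z ≠ 1 := fun h => hz₀1 (Subtype.ext h)
  -- the centraliser of `U` has index at most two in `T`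
  have hindex : ∀ g ∈ (T : Subgroup G), ∀ h ∈ (T : Subgroup G), g ∉ M → h ∉ M →
      g⁻¹ * h ∈ M := by
    intro g hg h hh hgM hhM
    refine Subgroup.mem_inf.2 ⟨mul_mem (inv_mem hg) hh, fun u hu => ?_⟩
    have key : ∀ k ∈ (T : Subgroup G), k ∉ M → k * u * k⁻¹ = u → u = 1 ∨ u = z := by
      intro k hk hkM hku
      by_contra hcon
      push Not at hcon
      refine hkM (Subgroup.mem_inf.2 ⟨hk, fun v hv => ?_⟩)
      have hkz : z * k = k * z := (congrArg Subtype.val
        (Subgroup.mem_center_iff.1 hz₀c ⟨k, hk⟩)).symm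
      have hzu : z * u ∈ U := mul_mem hzU hu
      have hK : IsKleinFour U := ⟨hUc, by
        rw [Monoid.exponent_eq_prime_iff Nat.prime_two]
        intro w hw
        exact invol_iff.2 ⟨by
          have := hUe w w.2
          rw [pow_two] at this
          exact Subtype.ext this, hw⟩⟩
      have hcases : v = 1 ∨ v = z ∨ v = u ∨ v = z * u := by
        by_contra hv'
        push Not at hv'
        obtain ⟨h1, h2, h3, h4⟩ := hv'
        exact h4 (congrArg Subtype.val (IsKleinFour.eq_mul_of_ne_all (G := U) (x := ⟨z, hzU⟩)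
          (y := ⟨u, hu⟩) (z := ⟨v, hv⟩) (fun e => hz1 (congrArg Subtype.val e))
          (fun e => hcon.1 (congrArg Subtype.val e)) (fun e => hcon.2 (congrArg Subtype.val e).symm)
          (fun e => h1 (congrArg Subtype.val e)) (fun e => h2 (congrArg Subtype.val e))
          (fun e => h3 (congrArg Subtype.val e))))
      have hku' : u * k = k * u := (mul_inv_eq_iff_eq_mul.1 hku).symm
      rcases hcases with rfl | rfl | rfl | rfl
      · simp
      · exact hkz
      · exact hku'
      · rw [mul_assoc, hku', ← mul_assoc, hkz, mul_assoc]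
    -- both send `u` to the same element
    rcases eq_or_ne (g * u * g⁻¹) u with hgu | hgu
    · rcases key g hg hgM hgu with rfl | rfl
      · simp
      · exact ((congrArg Subtype.val
          (Subgroup.mem_center_iff.1 hz₀c ⟨g⁻¹ * h, mul_mem (inv_mem hg) hh⟩)).symm :)
    · rcases eq_or_ne (h * u * h⁻¹) u with hhu | hhu
      · exfalso
        rcases key h hh hhM hhu with rfl | rfl
        · exact hgu (by simp)
        · refine hgu ?_
          have := congrArg Subtype.val (Subgroup.mem_center_iff.1 hz₀c ⟨g, hg⟩)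
          simp only [Subgroup.coe_mul] at this
          rw [this, mul_inv_cancel_right]
      · have hK : IsKleinFour U := ⟨hUc, by
          rw [Monoid.exponent_eq_prime_iff Nat.prime_two]
          intro w hw
          exact invol_iff.2 ⟨by
            have := hUe w w.2
            rw [pow_two] at this
            exact Subtype.ext this, hw⟩⟩
        have hu1 : u ≠ 1 := fun e => hgu (by simp [e])
        have huz : u ≠ z := fun e => hgu (by
          have := congrArg Subtype.val (Subgroup.mem_center_iff.1 hz₀c ⟨g, hg⟩)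
          simp only [Subgroup.coe_mul] at this
          rw [e, this, mul_inv_cancel_right])
        have himg : ∀ k ∈ (T : Subgroup G), k * u * k⁻¹ ≠ u → k * u * k⁻¹ = z * u := by
          intro k hk hne
          have hkz := congrArg Subtype.val (Subgroup.mem_center_iff.1 hz₀c ⟨k, hk⟩)
          simp only [Subgroup.coe_mul] at hkz
          exact congrArg Subtype.val (IsKleinFour.eq_mul_of_ne_all (G := U) (x := ⟨z, hzU⟩)
            (y := ⟨u, hu⟩) (z := ⟨k * u * k⁻¹, hUn k hk u hu⟩)
            (fun e => hz1 (congrArg Subtype.val e)) (fun e => hu1 (congrArg Subtype.val e))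
            (fun e => huz (congrArg Subtype.val e).symm)
            (fun e => hu1 (by simpa using congrArg Subtype.val e))
            (fun e => huz (by
              have e' : k * u * k⁻¹ = z := congrArg Subtype.val e
              calc u = k⁻¹ * (k * u * k⁻¹) * k := by group
                _ = k⁻¹ * (z * k) := by rw [e', mul_assoc]
                _ = z := by rw [← hkz, inv_mul_cancel_left]))
            (fun e => hne (congrArg Subtype.val e)))
        have e := (himg g hg hgu).trans (himg h hh hhu).symm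
        show u * (g⁻¹ * h) = g⁻¹ * h * u
        calc u * (g⁻¹ * h) = g⁻¹ * (g * u * g⁻¹) * h := by group
          _ = g⁻¹ * (h * u * h⁻¹) * h := by rw [e]
          _ = g⁻¹ * h * u := by group
  -- a conjugate of `x` lies in `M`
  obtain ⟨g, hg⟩ : ∃ g : G, g * x * g⁻¹ ∈ M := by
    by_cases hMT : M = (T : Subgroup G)
    · have hpg : IsPGroup 2 (Subgroup.zpowers x) :=
        IsPGroup.of_card (n := 1) (by rw [Nat.card_zpowers, hx, pow_one])
      obtain ⟨Q, hQ⟩ := hpg.exists_le_sylow
      obtain ⟨g, hg⟩ := MulAction.exists_smul_eq G Q T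
      refine ⟨g, hMT ▸ ?_⟩
      rw [← hg, Sylow.coe_subgroup_smul]
      simpa using Subgroup.smul_mem_pointwise_smul (a := MulAut.conj g) x (Q : Subgroup G)
        (hQ (Subgroup.mem_zpowers x))
    · refine Fusion.Thompson.exists_conj_mem_maximal T M inf_le_left ?_ hno x hx
      obtain ⟨a, haT, haM⟩ := SetLike.exists_of_lt (lt_of_le_of_ne (inf_le_left : M ≤ _) hMT)
      rw [Subgroup.relIndex, Subgroup.index_eq_two_iff_exists_notMem_and]
      refine ⟨⟨a, haT⟩, fun h => haM (Subgroup.mem_subgroupOf.1 h), fun b => ?_⟩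
      by_cases hb : (b : G) ∈ M
      · exact Or.inr (Subgroup.mem_subgroupOf.2 hb)
      · refine Or.inl (Subgroup.mem_subgroupOf.2 ?_)
        have := hindex (b : G)⁻¹ (inv_mem b.2) a haT (fun h => hb (by simpa using inv_mem h)) haM
        simpa using this
  set y := g * x * g⁻¹ with hy
  have hy2 : y ^ 2 = 1 := by rw [hy, conj_pow, ← hx, pow_orderOf_eq_one, mul_one, mul_inv_cancel]
  -- it suffices to treat `y`
  suffices h : ∃ W : Subgroup G, W ≤ Subgroup.centralizer ({y} : Set G) ∧ 8 ≤ Nat.card W ∧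
      ∀ e ∈ W, e ^ 2 = 1 by
    obtain ⟨W, hW1, hW2, hW3⟩ := h
    obtain ⟨E', hE'W, hE'c, hE'e⟩ := exists_card_eight hW2 hW3
    refine ⟨E'.map (MulAut.conj g⁻¹).toMonoidHom, ?_, ?_, ?_⟩
    · rintro _ ⟨e, he, rfl⟩
      have h1 := Subgroup.mem_centralizer_singleton_iff.1 (hW1 (hE'W he))
      rw [Subgroup.mem_centralizer_singleton_iff]
      show g⁻¹ * e * g⁻¹⁻¹ * x = x * (g⁻¹ * e * g⁻¹⁻¹)
      calc g⁻¹ * e * g⁻¹⁻¹ * x = g⁻¹ * (e * (g * x * g⁻¹)) * g := by group
        _ = g⁻¹ * ((g * x * g⁻¹) * e) * g := by rw [h1]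
        _ = x * (g⁻¹ * e * g⁻¹⁻¹) := by group
    · rw [Subgroup.card_map_of_injective (MulAut.conj g⁻¹).injective, hE'c]
    · rintro _ ⟨e, he, rfl⟩
      rw [← map_pow, hE'e e he, map_one]
  have hyU : Subgroup.zpowers y ≤ Subgroup.centralizer (U : Set G) :=
    Subgroup.zpowers_le.2 (Subgroup.mem_inf.1 hg).2
  have hye : ∀ v ∈ Subgroup.zpowers y, v ^ 2 = 1 := fun v hv => by
    obtain ⟨i, rfl⟩ := Subgroup.mem_zpowers_iff.1 hv
    rw [← zpow_natCast, ← zpow_mul, mul_comm, zpow_mul, zpow_natCast, hy2, one_zpow]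
  by_cases hyin : y ∈ U
  · by_cases hEM : E ≤ Subgroup.centralizer (U : Set G)
    · refine ⟨E, fun e he => Subgroup.mem_centralizer_singleton_iff.2 ?_, hE.ge, hEe⟩
      exact (hEM he y hyin).symm
    · set F := E ⊓ Subgroup.centralizer (U : Set G) with hF
      refine ⟨U ⊔ F, ?_, eight_le_card_sup hUc hUe (fun v hv => hEe v (Subgroup.mem_inf.1 hv).1)
        inf_le_right ?_, exp_two_sup hUe (fun v hv => hEe v (Subgroup.mem_inf.1 hv).1) inf_le_right⟩
      · refine sup_le (fun u hu => ?_) (fun f hf => ?_)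
        · exact Subgroup.mem_centralizer_singleton_iff.2 (comm_of_exp_two hUe hu hyin)
        · exact Subgroup.mem_centralizer_singleton_iff.2 ((Subgroup.mem_inf.1 hf).2 y hyin).symm
      · intro hFU
        obtain ⟨a, haE, haC⟩ := SetLike.not_le_iff_exists.1 hEM
        have haM : a ∉ M := fun h => haC (Subgroup.mem_inf.1 h).2
        have h2 : F.relIndex E ≤ 2 := by
          rw [Subgroup.relIndex]
          refine (Subgroup.index_eq_two_iff_exists_notMem_and.2
            ⟨⟨a, haE⟩, fun h => haC (Subgroup.mem_inf.1 (Subgroup.mem_subgroupOf.1 h)).2,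
              fun b => ?_⟩).le
          by_cases hb : (b : G) ∈ Subgroup.centralizer (U : Set G)
          · exact Or.inr (Subgroup.mem_subgroupOf.2 (Subgroup.mem_inf.2 ⟨b.2, hb⟩))
          · refine Or.inl (Subgroup.mem_subgroupOf.2 (Subgroup.mem_inf.2 ⟨mul_mem b.2 haE, ?_⟩))
            have h' := hindex (b : G)⁻¹ (inv_mem (hT b.2)) a (hT haE)
              (fun h => hb (by simpa using inv_mem (Subgroup.mem_inf.1 h).2)) haM
            simpa using (Subgroup.mem_inf.1 h').2
        have h4 : 4 ≤ Nat.card F := by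
          have hcm : (F.subgroupOf E).index * Nat.card F = 8 := by
            rw [← hE, ← Nat.card_congr (Subgroup.subgroupOfEquivOfLe (inf_le_left : F ≤ E)).toEquiv,
              mul_comm]
            exact (F.subgroupOf E).card_mul_index
          rw [Subgroup.relIndex] at h2
          by_contra hlt
          have := Nat.mul_le_mul h2 (show Nat.card F ≤ 3 by omega)
          omega
        have hUE : U ≤ E := (Subgroup.eq_of_le_of_card_ge hFU (hUc ▸ h4)) ▸ inf_le_left
        exact haC fun u hu => comm_of_exp_two hEe (hUE hu) haE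
  · refine ⟨U ⊔ Subgroup.zpowers y, ?_, eight_le_card_sup hUc hUe hye hyU
      (fun h => hyin (h (Subgroup.mem_zpowers y))), exp_two_sup hUe hye hyU⟩
    refine sup_le (fun u hu => ?_) (Subgroup.zpowers_le.2
      (Subgroup.mem_centralizer_singleton_iff.2 rfl))
    exact Subgroup.mem_centralizer_singleton_iff.2 ((Subgroup.mem_inf.1 hg).2 u hu)

end Cfsg.Agent.Lib.Involutions.RankThree
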